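import Mathlib
import Cfsg.Agent.Lib.Presentations.SLModel
import Cfsg.Agent.Lib.Generation.SL3Four

/-!
Facts inside SL₃ used in gluing: torus words, the swap of two indices, small generating sets.
-/

set_option autoImplicit false
set_option linter.unusedSectionVars false

namespace CfsgLib.Presentations.SLTight

open Matrix
open Multiplicative (ofAdd)
open CfsgLib.SL3Pres (mX mY mC mH mDiag mRoot mRoot_val)
open CfsgLib.Generation

variable {F : Type*} [Field F]

local notation "B" => Matrix.SpecialLinearGroup (Fin 3) F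

/-- The Weyl word followed by the inverse of the one at parameter one. -/
def Wd (i j : Fin 3) (hij : i ≠ j) (s : Fˣ) : B :=
  mRoot F i j hij (ofAdd (s : F)) * mRoot F j i hij.symm (ofAdd (-(s : F)⁻¹))
      * mRoot F i j hij (ofAdd (s : F))
    * (mRoot F i j hij (ofAdd (-1)) * mRoot F j i hij.symm (ofAdd 1) * mRoot F i j hij (ofAdd (-1)))

theorem Wd_zero_two (s : Fˣ) : Wd 0 2 (by decide) s = mH s := by
  refine Subtype.ext ?_
  simp only [Wd, Matrix.SpecialLinearGroup.coe_mul, mRoot_val]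
  ext r c
  fin_cases r <;> fin_cases c <;>
    simp [mH, mDiag, Matrix.transvection, Matrix.mul_apply, Fin.sum_univ_three,
      Matrix.single_apply] <;> field_simp <;> ring

theorem Wd_zero_one (s : Fˣ) : Wd 0 1 (by decide) s = mDiag F s s⁻¹ := by
  refine Subtype.ext ?_
  simp only [Wd, Matrix.SpecialLinearGroup.coe_mul, mRoot_val]
  ext r c
  fin_cases r <;> fin_cases c <;>
    simp [mDiag, Matrix.transvection, Matrix.mul_apply, Fin.sum_univ_three,
      Matrix.single_apply] <;> field_simp <;> ring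

theorem Wd_one_zero (s : Fˣ) : Wd 1 0 (by decide) s = mDiag F s⁻¹ s := by
  refine Subtype.ext ?_
  simp only [Wd, Matrix.SpecialLinearGroup.coe_mul, mRoot_val]
  ext r c
  fin_cases r <;> fin_cases c <;>
    simp [mDiag, Matrix.transvection, Matrix.mul_apply, Fin.sum_univ_three,
      Matrix.single_apply] <;> field_simp <;> ring

theorem mDiag_inv (a b : Fˣ) : (mDiag F a b)⁻¹ = mDiag F a⁻¹ b⁻¹ :=
  inv_eq_of_mul_eq_one_right (by
    rw [SL3Pres.mDiag_mul, mul_inv_cancel, mul_inv_cancel, SL3Pres.mDiag_one])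

theorem mDiag_conj12 (a b : Fˣ) (v : F) :
    mDiag F a b * mRoot F 1 2 (by decide) (ofAdd v) * (mDiag F a b)⁻¹
      = mRoot F 1 2 (by decide) (ofAdd ((a : F) * b * b * v)) := by
  rw [mul_inv_eq_iff_eq_mul]
  refine Subtype.ext ?_
  rw [Matrix.SpecialLinearGroup.coe_mul, Matrix.SpecialLinearGroup.coe_mul, mRoot_val, mRoot_val]
  ext r s
  fin_cases r <;> fin_cases s <;>
    simp [mDiag, Matrix.transvection, Matrix.mul_apply, Fin.sum_univ_three,
      Matrix.single_apply] <;> field_simp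

/-- The torus element as two conjugates of one. -/
theorem torus_split (t : Fˣ) :
    mH t * (mC F * mC F * mH t * (mC F * mC F)⁻¹) = mDiag F t t⁻¹ := by
  rw [show mC F * mC F * mH t * (mC F * mC F)⁻¹ = mC F * (mC F * mH t * (mC F)⁻¹) * (mC F)⁻¹ by group,
    mH, SL3Pres.mC_diag, SL3Pres.mC_diag, SL3Pres.mDiag_mul]
  simp

/-- A subgroup with the three-cycle and one root group is everything. -/
theorem top_of_c_root (K : Subgroup B) (hc : mC F ∈ K) (hX : ∀ a, mX F (ofAdd a) ∈ K) : K = ⊤ := by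
  have sh : ∀ (i j : Fin 3) (hij : i ≠ j), (∀ a, mRoot F i j hij (ofAdd a) ∈ K) →
      ∀ a, mRoot F (i + 1) (j + 1) (fun h => hij (add_right_cancel h)) (ofAdd a) ∈ K :=
    fun i j hij h a => SL3Pres.mC_shift i j hij a ▸ mul_mem (mul_mem hc (h a)) (inv_mem hc)
  have b01 : ∀ a, mRoot F 0 1 (by decide) (ofAdd a) ∈ K := hX
  have b12 := sh 0 1 (by decide) b01
  have b20 := sh 1 2 (by decide) b12
  have b02 : ∀ a, mRoot F 0 2 (by decide) (ofAdd a) ∈ K := fun a => by
    rw [show a = a * 1 from (mul_one a).symm, ← SL3Pres.mRoot_cm 0 1 2 (by decide) (by decide)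
      (by decide) a 1, SL3Pres.cm]
    exact mul_mem (mul_mem (mul_mem (b01 a) (b12 1)) (inv_mem (b01 a))) (inv_mem (b12 1))
  have b10 := sh 0 2 (by decide) b02
  have b21 := sh 1 0 (by decide) b10
  refine CfsgLib.Classical.SL_le_of_transvections _ fun i j hij a => ?_
  show mRoot F i j hij (ofAdd a) ∈ K
  fin_cases i <;> fin_cases j <;> first
    | exact absurd rfl hij
    | exact b01 a | exact b02 a | exact b12 a | exact b20 a | exact b10 a | exact b21 a

/-- The first index exchanged with the second. -/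
def swB : B →* B where
  toFun M := ⟨M.1.submatrix (Equiv.swap (0 : Fin 3) 1) (Equiv.swap (0 : Fin 3) 1), by
    rw [Matrix.det_submatrix_equiv_self]; exact M.2⟩
  map_one' := Subtype.ext (by simp)
  map_mul' M N := Subtype.ext (Matrix.submatrix_mul_equiv M.1 N.1 _ (Equiv.swap (0 : Fin 3) 1) _).symm

theorem swB_root (i j : Fin 3) (hij : i ≠ j) (a : F) :
    swB (mRoot F i j hij (ofAdd a))
      = mRoot F (Equiv.swap 0 1 i) (Equiv.swap 0 1 j) ((Equiv.swap (0 : Fin 3) 1).injective.ne hij)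
          (ofAdd a) := by
  refine Subtype.ext ?_
  show ((mRoot F i j hij (ofAdd a) : B) : Matrix (Fin 3) (Fin 3) F).submatrix _ _ = _
  rw [mRoot_val, mRoot_val]
  ext r c
  obtain ⟨r, rfl⟩ := (Equiv.swap (0 : Fin 3) 1).surjective r
  obtain ⟨c, rfl⟩ := (Equiv.swap (0 : Fin 3) 1).surjective c
  simp [Matrix.transvection, Matrix.one_apply, Matrix.single_apply, Equiv.swap_apply_self,
    (Equiv.swap (0 : Fin 3) 1).injective.eq_iff]

theorem swB_mC : swB (mC F) = (mC F)⁻¹ := by
  refine eq_inv_of_mul_eq_one_left (Subtype.ext ?_)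
  rw [Matrix.SpecialLinearGroup.coe_mul]
  show ((mC F : B) : Matrix (Fin 3) (Fin 3) F).submatrix _ _ * _ = _
  ext r c
  fin_cases r <;> fin_cases c <;>
    simp (config := { decide := true }) [mC, Matrix.mul_apply, Fin.sum_univ_three, Equiv.swap_apply_def]

theorem swB_Wd (i j : Fin 3) (hij : i ≠ j) (s : Fˣ) :
    swB (Wd i j hij s)
      = Wd (Equiv.swap 0 1 i) (Equiv.swap 0 1 j) ((Equiv.swap (0 : Fin 3) 1).injective.ne hij) s := by
  simp only [Wd, map_mul, swB_root]

theorem swB_mX (a : F) : swB (mX F (ofAdd a)) = mRoot F 1 0 (by decide) (ofAdd a) :=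
  swB_root 0 1 _ a

theorem swB_m10 (a : F) : swB (mRoot F 1 0 (by decide) (ofAdd a)) = mX F (ofAdd a) :=
  swB_root 1 0 _ a

theorem swB_diag (s : Fˣ) : swB (mDiag F s s⁻¹) = (mDiag F s s⁻¹)⁻¹ := by
  rw [← Wd_zero_one, swB_Wd, Wd_zero_one, mDiag_inv, inv_inv]
  exact Wd_one_zero s

/-- The element whose powers give a transvection and a central torus element of the line. -/
def g0 (t : Fˣ) : B := mDiag F t t * mX F (ofAdd 1)

theorem pow_mDiag (a b : Fˣ) (k : ℕ) : mDiag F a b ^ k = mDiag F (a ^ k) (b ^ k) := by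
  induction k with
  | zero => simp [SL3Pres.mDiag_one]
  | succ k ih => rw [pow_succ, ih, SL3Pres.mDiag_mul, pow_succ, pow_succ]

theorem pow_mX (a : F) (k : ℕ) : mX F (ofAdd a) ^ k = mX F (ofAdd ((k : F) * a)) := by
  rw [← map_pow, ← ofAdd_nsmul, nsmul_eq_mul]

/-- The three-cycle and the compound element generate, outside the field of four elements. -/
theorem top_of_c_g0 [Fintype F] (h4 : Fintype.card F ≠ 4) {t : Fˣ}
    (ht : ∀ x : Fˣ, ∃ k : ℕ, t ^ k = x) (K : Subgroup B) (hc : mC F ∈ K) (hg : g0 t ∈ K) :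
    K = ⊤ := by
  classical
  have hcomm : Commute (mDiag F t t) (mX F (ofAdd 1)) := by
    have h := SL3Pres.mDiag_conj t t (1 : F)
    rw [div_self t.ne_zero, one_mul, mul_inv_eq_iff_eq_mul] at h
    exact h
  have hu : mX F (ofAdd 1) ∈ K := by
    have h := pow_mem hg (Fintype.card F - 1)
    rw [g0, hcomm.mul_pow, pow_mDiag, pow_mX,
      show t ^ (Fintype.card F - 1) = 1 from Units.ext (by
        rw [Units.val_pow_eq_pow_val, FiniteField.pow_card_sub_one_eq_one _ t.ne_zero, Units.val_one]),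
      SL3Pres.mDiag_one, one_mul, Nat.cast_sub Fintype.one_lt_card.le, FiniteField.cast_card_eq_zero,
      Nat.cast_one, zero_sub, mul_one, ofAdd_neg, map_inv] at h
    exact K.inv_mem_iff.1 h
  have hd : mDiag F t t ∈ K := by
    have := mul_mem hg (inv_mem hu)
    rwa [g0, mul_inv_cancel_right] at this
  have hh : mH (t ^ 3) ∈ K := by
    have h := mul_mem hd (inv_mem (mul_mem (mul_mem hc hd) (inv_mem hc)))
    rw [SL3Pres.mC_diag, mDiag_inv, inv_inv, SL3Pres.mDiag_mul, mul_inv_cancel] at h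
    rwa [mH, show t ^ 3 = t * (t * t) by rw [pow_three]]
  refine top_of_c_root K hc fun a => ?_
  refine CfsgLib.SL3Pres.spans_cubes h4 (fun a => mX F (ofAdd a) ∈ K) (by simp) (fun x y hx hy => ?_)
    ?_ a
  · show mX F (ofAdd (x + y)) ∈ K
    rw [ofAdd_add, map_mul]; exact mul_mem hx hy
  · rintro _ ⟨e, rfl⟩
    obtain ⟨k, rfl⟩ := ht e
    show mX F (ofAdd (((t ^ k : Fˣ) : F) ^ 3)) ∈ K
    have hk : mH ((t ^ 3) ^ k) ∈ K := by
      have := pow_mem hh k
      rwa [mH, pow_mDiag, one_pow] at this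
    have h := mul_mem (mul_mem hk hu) (inv_mem hk)
    rw [mH, SL3Pres.mDiag_conj, Units.val_one, div_one, mul_one] at h
    rwa [show (((t ^ k : Fˣ) : F) ^ 3) = (((t ^ 3) ^ k : Fˣ) : F) by
      rw [← Units.val_pow_eq_pow_val, ← pow_mul, ← pow_mul, mul_comm]]

/-- For four elements: one element and its mirror image give the transvection and the torus. -/
def a4 (t : Fˣ) : B := mRoot F 1 0 (by decide) (ofAdd (t : F)) * mX F (ofAdd 1)

theorem four_words [Fintype F] (h4 : Fintype.card F = 4) {t : Fˣ}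
    (ht : ∀ x : Fˣ, ∃ k : ℕ, t ^ k = x) (K : Subgroup B) (ha : a4 t ∈ K) (hb : swB (a4 t) ∈ K) :
    mX F (ofAdd 1) ∈ K ∧ mDiag F t t⁻¹ ∈ K := by
  classical
  have h2 : (2 : F) = 0 := by
    have h : ((Fintype.card F : ℕ) : F) = 0 := Nat.cast_card_eq_zero F
    rw [h4] at h
    have : (2 : F) * 2 = 0 := by rw [← h]; norm_num
    exact mul_self_eq_zero.1 this
  have : CharP F 2 := CharTwo.of_one_ne_zero_of_two_eq_zero one_ne_zero h2
  have ht3 : (t : F) ^ 3 = 1 := by simpa [h4] using FiniteField.pow_card_sub_one_eq_one (t : F) t.ne_zero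
  have ht1 : (t : F) ≠ 1 := by
    intro h
    have : (Finset.univ : Finset F) ⊆ {0, 1} := fun y _ => by
      rcases eq_or_ne y 0 with rfl | hy
      · simp
      · obtain ⟨k, hk⟩ := ht (Units.mk0 y hy)
        have := congrArg Units.val hk
        simp [h] at this
        simp [← this]
    have := (Finset.card_le_card this).trans Finset.card_le_two
    rw [Finset.card_univ, h4] at this
    omega
  have hω : (t : F) * t = 1 + t := by
    have : ((t : F) - 1) * ((t : F) * t + t + 1) = 0 := by linear_combination ht3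
    have := (mul_eq_zero.1 this).resolve_left (sub_ne_zero.2 ht1)
    linear_combination this - (1 + (t : F)) * h2
  have hinv : ((t⁻¹ : Fˣ) : F) = 1 + (t : F) := by
    rw [Units.val_inv_eq_inv_val, ← hω]
    exact inv_eq_of_mul_eq_one_right (by linear_combination ht3)
  have mA : Mem4 K (t : F) ![![1, 1, 0], ![2, 3, 0], ![0, 0, 1]] := by
    refine ⟨_, ha, ?_⟩
    simp only [a4, Matrix.SpecialLinearGroup.coe_mul, SL3Pres.mX, mRoot_val]
    ext i j
    fin_cases i <;> fin_cases j <;>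
      simp [val4, Matrix.transvection, Matrix.mul_apply, Fin.sum_univ_three, Matrix.single_apply] <;>
      ring
  have mB : Mem4 K (t : F) ![![3, 2, 0], ![1, 1, 0], ![0, 0, 1]] := by
    refine ⟨_, hb, ?_⟩
    rw [a4, map_mul, swB_m10, swB_mX]
    simp only [Matrix.SpecialLinearGroup.coe_mul, SL3Pres.mX, mRoot_val]
    ext i j
    fin_cases i <;> fin_cases j <;>
      simp [val4, Matrix.transvection, Matrix.mul_apply, Fin.sum_univ_three, Matrix.single_apply] <;>
      ring
  have mul' : ∀ {P Q : Fin 3 → Fin 3 → Fin 4}, Mem4 K (t : F) P → Mem4 K (t : F) Q →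
      Mem4 K (t : F) (mulM4 P Q) := by
    rintro P Q ⟨x, hx, ex⟩ ⟨y, hy, ey⟩
    exact ⟨x * y, mul_mem hx hy, by rw [Matrix.SpecialLinearGroup.coe_mul, ex, ey, ← val4_mulM hω]⟩
  obtain ⟨x, hx, ex⟩ := mul' (mul' (mul' (mul' mB mB) mA) mB) mA
  obtain ⟨y, hy, ey⟩ := mul' (mul' (mul' (mul' mB mB) mB) mB) mA
  constructor
  · have : mX F (ofAdd (1 : F)) = x := Subtype.ext (by
      rw [ex, show mulM4 (mulM4 (mulM4 (mulM4 ![![3, 2, 0], ![1, 1, 0], ![0, 0, 1]]
        ![![3, 2, 0], ![1, 1, 0], ![0, 0, 1]]) ![![1, 1, 0], ![2, 3, 0], ![0, 0, 1]])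
        ![![3, 2, 0], ![1, 1, 0], ![0, 0, 1]]) ![![1, 1, 0], ![2, 3, 0], ![0, 0, 1]]
        = ![![1, 1, 0], ![0, 1, 0], ![0, 0, 1]] by decide, SL3Pres.mX, mRoot_val]
      ext i j
      fin_cases i <;> fin_cases j <;> simp [val4, Matrix.transvection, Matrix.single_apply])
    exact this ▸ hx
  · have : mDiag F t t⁻¹ = y := Subtype.ext (by
      rw [ey, show mulM4 (mulM4 (mulM4 (mulM4 ![![3, 2, 0], ![1, 1, 0], ![0, 0, 1]]
        ![![3, 2, 0], ![1, 1, 0], ![0, 0, 1]]) ![![3, 2, 0], ![1, 1, 0], ![0, 0, 1]])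
        ![![3, 2, 0], ![1, 1, 0], ![0, 0, 1]]) ![![1, 1, 0], ![2, 3, 0], ![0, 0, 1]]
        = ![![2, 0, 0], ![0, 3, 0], ![0, 0, 1]] by decide]
      ext i j
      fin_cases i <;> fin_cases j <;> simp [val4, mDiag, ← hinv])
    exact this ▸ hy

/-- A transvection and the torus of the line, with the three-cycle, generate. -/
theorem top_of_c_u_d [Fintype F] {t : Fˣ} (ht : ∀ x : Fˣ, ∃ k : ℕ, t ^ k = x) (K : Subgroup B)
    (hc : mC F ∈ K) (hu : mX F (ofAdd 1) ∈ K) (hd : mDiag F t t⁻¹ ∈ K) : K = ⊤ := by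
  refine top_of_c_root K hc fun a => ?_
  refine CfsgLib.SL2Pres.hom_mem_of_span (mX F) (mDiag F t t⁻¹) (s := (t : F) ^ 2) (fun c => ?_)
    (span_sq ht) K hu hd a
  rw [SL3Pres.mDiag_conj]
  congr 2
  simp [pow_two, div_eq_mul_inv]

end CfsgLib.Presentations.SLTight
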