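import Mathlib
import Cfsg.Agent.Lib.Presentations.SLModel

/-!
The permutations used to glue SL₃ to an alternating group.
-/

set_option autoImplicit false
set_option linter.unusedSectionVars false

namespace CfsgLib.Presentations.SLTight

open Equiv Equiv.Perm
open Carmichael

variable {n : ℕ} (hn : 4 ≤ n)

/-- The first four points. -/
def pt (k : Fin 4) : Fin n := Fin.castLE hn k

theorem pt_inj : Function.Injective (pt hn) := Fin.castLE_injective hn

theorem pt_ne {a b : Fin 4} (h : a ≠ b) : pt hn a ≠ pt hn b := (pt_inj hn).ne h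

/-- The first three points. -/
def e3 (k : Fin 3) : Fin n := Fin.castLE (Nat.le_of_succ_le hn) k

theorem e3_zero : e3 hn 0 = pt hn 0 := rfl
theorem e3_one : e3 hn 1 = pt hn 1 := rfl
theorem e3_two : e3 hn 2 = pt hn 2 := rfl

theorem e3_eq (k : Fin 3) : e3 hn k = pt hn k.castSucc := rfl

theorem e3_ne_three (k : Fin 3) : e3 hn k ≠ pt hn 3 := by
  rw [e3_eq]; exact pt_ne hn (Fin.castSucc_lt_last k).ne

theorem three_cases (x : Fin n) : x = pt hn 0 ∨ x = pt hn 1 ∨ x = pt hn 2 ∨ 3 ≤ x.1 := by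
  obtain h | h | h | h : x.1 = 0 ∨ x.1 = 1 ∨ x.1 = 2 ∨ 3 ≤ x.1 := by omega
  · exact Or.inl (Fin.ext h)
  · exact Or.inr (Or.inl (Fin.ext h))
  · exact Or.inr (Or.inr (Or.inl (Fin.ext h)))
  · exact Or.inr (Or.inr (Or.inr h))

/-- The three-cycle of the block. -/
def σc : alternatingGroup (Fin n) :=
  gen (pt_ne hn (a := 0) (b := 1) (by decide))
    ⟨pt hn 2, pt_ne hn (by decide), pt_ne hn (by decide)⟩

/-- The involution exchanging the first pair. -/
def σi : alternatingGroup (Fin n) :=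
  ⟨swap (pt hn 0) (pt hn 1) * swap (pt hn 2) (pt hn 3), by
    rw [Equiv.Perm.mem_alternatingGroup, map_mul, sign_swap (pt_ne hn (by decide)),
      sign_swap (pt_ne hn (by decide))]; rfl⟩

/-- The exchange of the two pairs. -/
def σp : alternatingGroup (Fin n) :=
  ⟨swap (pt hn 0) (pt hn 2) * swap (pt hn 1) (pt hn 3), by
    rw [Equiv.Perm.mem_alternatingGroup, map_mul, sign_swap (pt_ne hn (by decide)),
      sign_swap (pt_ne hn (by decide))]; rfl⟩

/-- Moving the block one step away from the first point. -/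
def σs : alternatingGroup (Fin n) :=
  ⟨swap (pt hn 1) (pt hn 2) * swap (pt hn 2) (pt hn 3), by
    rw [Equiv.Perm.mem_alternatingGroup, map_mul, sign_swap (pt_ne hn (by decide)),
      sign_swap (pt_ne hn (by decide))]; rfl⟩

theorem σc_apply :
    (σc hn : Perm (Fin n)) (pt hn 0) = pt hn 1 ∧ (σc hn : Perm (Fin n)) (pt hn 1) = pt hn 2 ∧
    (σc hn : Perm (Fin n)) (pt hn 2) = pt hn 0 ∧
      ∀ x : Fin n, 3 ≤ x.1 → (σc hn : Perm (Fin n)) x = x := by
  obtain ⟨a, b, c, d⟩ := cyc_apply (pt_ne hn (a := 0) (b := 1) (by decide)) (i := pt hn 2)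
    ⟨pt_ne hn (by decide), pt_ne hn (by decide)⟩
  refine ⟨a, b, c, fun x hx => d x ?_ ?_ ?_⟩ <;>
    · rintro rfl
      simp [pt] at hx

theorem σc_cube : σc hn ^ 3 = 1 := (gen_rels _).cube _

theorem σi_apply :
    (σi hn : Perm (Fin n)) (pt hn 0) = pt hn 1 ∧ (σi hn : Perm (Fin n)) (pt hn 1) = pt hn 0 ∧
    (σi hn : Perm (Fin n)) (pt hn 2) = pt hn 3 ∧ (σi hn : Perm (Fin n)) (pt hn 3) = pt hn 2 := by
  refine ⟨?_, ?_, ?_, ?_⟩ <;>
    simp (config := { decide := true }) [σi, swap_apply_def, (pt_inj hn).eq_iff]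

theorem σi_mul_self : σi hn * σi hn = 1 := by
  refine Subtype.ext (Perm.ext fun x => ?_)
  simp only [σi, Subgroup.coe_mul, Perm.mul_apply, OneMemClass.coe_one, Perm.one_apply, swap_apply_def]
  split_ifs <;> simp_all (config := { decide := true }) [(pt_inj hn).eq_iff]

theorem σi_inv : (σi hn)⁻¹ = σi hn := inv_eq_of_mul_eq_one_right (σi_mul_self hn)

theorem σp_apply :
    (σp hn : Perm (Fin n)) (pt hn 0) = pt hn 2 ∧ (σp hn : Perm (Fin n)) (pt hn 1) = pt hn 3 ∧
    (σp hn : Perm (Fin n)) (pt hn 2) = pt hn 0 ∧ (σp hn : Perm (Fin n)) (pt hn 3) = pt hn 1 := by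
  refine ⟨?_, ?_, ?_, ?_⟩ <;>
    simp (config := { decide := true }) [σp, swap_apply_def, (pt_inj hn).eq_iff]

theorem σs_apply :
    (σs hn : Perm (Fin n)) (pt hn 0) = pt hn 0 ∧ (σs hn : Perm (Fin n)) (pt hn 1) = pt hn 2 ∧
    (σs hn : Perm (Fin n)) (pt hn 2) = pt hn 3 := by
  refine ⟨?_, ?_, ?_⟩ <;>
    simp (config := { decide := true }) [σs, swap_apply_def, (pt_inj hn).eq_iff]

/-- The points outside the block. -/
def outside : Finset (Fin n) := Finset.univ.filter fun x => 3 ≤ x.1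

theorem exists_cycle : ∃ s : Shift (pt_ne hn (a := 0) (b := 1) (by decide)) (outside (n := n)) (pt hn 3),
    (s.σ : Perm (Fin n)) (pt hn 2) = pt hn 2 := by
  obtain ⟨s⟩ := exists_shift (pt_ne hn (a := 0) (b := 1) (by decide)) (outside (n := n)) (pt hn 3)
    (by simp [outside, pt]) (by simp [outside, pt]) (by simp [outside, pt])
  exact ⟨s, s.fix _ (by simp [outside, pt]) (pt_ne hn (by decide)) (pt_ne hn (by decide))⟩

/-- The long permutation outside the block, and what it does to the first pair. -/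
noncomputable def σr : alternatingGroup (Fin n) := (exists_cycle hn).choose.σ

theorem σr_pair :
    (σr hn : Perm (Fin n)) (pt hn 0) = pt hn 0 ∧ (σr hn : Perm (Fin n)) (pt hn 1) = pt hn 1 ∨
    (σr hn : Perm (Fin n)) (pt hn 0) = pt hn 1 ∧ (σr hn : Perm (Fin n)) (pt hn 1) = pt hn 0 :=
  (exists_cycle hn).choose.comm_c

theorem σr_two : (σr hn : Perm (Fin n)) (pt hn 2) = pt hn 2 := (exists_cycle hn).choose_spec

/-- The conjugates of the involution by powers of the long permutation. -/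
noncomputable def σk (k : ℕ) : alternatingGroup (Fin n) := σr hn ^ k * σi hn * (σr hn ^ k)⁻¹

theorem stab_le (K : Subgroup (alternatingGroup (Fin n))) (hK : ∀ k, σk hn k * σi hn ∈ K)
    (h : alternatingGroup (Fin n)) (h0 : (h : Perm (Fin n)) (pt hn 0) = pt hn 0)
    (h1 : (h : Perm (Fin n)) (pt hn 1) = pt hn 1) : h ∈ K := by
  classical
  set S : Finset (Fin n) := (Finset.univ.erase (pt hn 0)).erase (pt hn 1) with hS
  have m2 : pt hn 2 ∈ S := by simp (config := { decide := true }) [hS, (pt_inj hn).eq_iff]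
  have m3 : pt hn 3 ∈ S := by simp (config := { decide := true }) [hS, (pt_inj hn).eq_iff]
  have h23 : pt hn 2 ≠ pt hn 3 := pt_ne hn (by decide)
  obtain ⟨y, hy⟩ := exists_pre S h fun x hx => by
    simp only [hS, Finset.mem_erase, Finset.mem_univ, and_true]
    exact ⟨fun q => hx (q ▸ h1), fun q => hx (q ▸ h0)⟩
  suffices hle : (⊤ : Subgroup (alternatingGroup {x // x ∈ S})) ≤ K.comap (altIncl S) from
    hy ▸ hle (Subgroup.mem_top y)
  rw [← gen_closure (c₁ := (⟨_, m2⟩ : {x // x ∈ S})) (c₂ := ⟨_, m3⟩) (by simpa using h23),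
    Subgroup.closure_le]
  rintro _ ⟨j, rfl⟩
  rw [SetLike.mem_coe, Subgroup.mem_comap, altIncl_gen m2 m3 h23]
  obtain ⟨⟨x, hxS⟩, hj1, hj2⟩ := j
  have hx2 : x ≠ pt hn 2 := fun q => hj1 (Subtype.ext q)
  have hx3 : x ≠ pt hn 3 := fun q => hj2 (Subtype.ext q)
  simp only [hS, Finset.mem_erase, Finset.mem_univ, and_true] at hxS
  have hxo : x ∈ outside (n := n) := by
    rcases three_cases hn x with q | q | q | q
    · exact absurd q hxS.2
    · exact absurd q hxS.1
    · exact absurd q hx2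
    · simp [outside, q]
  set s := (exists_cycle hn).choose
  obtain ⟨k, hk⟩ := s.reach x hxo
  refine (congrArg (· ∈ K) ?_).mpr (hK k)
  refine Subtype.ext ?_
  show cyc (pt hn 2) (pt hn 3) x
    = ((σr hn : Perm (Fin n)) ^ k * (swap (pt hn 0) (pt hn 1) * swap (pt hn 2) (pt hn 3))
        * ((σr hn : Perm (Fin n)) ^ k)⁻¹) * (swap (pt hn 0) (pt hn 1) * swap (pt hn 2) (pt hn 3))
  have hr2 : ((σr hn : Perm (Fin n)) ^ k) (pt hn 2) = pt hn 2 :=
    Perm.pow_apply_eq_self_of_apply_eq_self (σr_two hn) k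
  have hswap : swap (((σr hn : Perm (Fin n)) ^ k) (pt hn 0)) (((σr hn : Perm (Fin n)) ^ k) (pt hn 1))
      = swap (pt hn 0) (pt hn 1) := by
    clear hk
    induction k with
    | zero => rfl
    | succ k ih =>
      rw [pow_succ', Perm.mul_apply, Perm.mul_apply,
        swap_apply_apply (σr hn : Perm (Fin n)), ih (Perm.pow_apply_eq_self_of_apply_eq_self (σr_two hn) k),
        ← swap_apply_apply]
      rcases σr_pair hn with ⟨a, b⟩ | ⟨a, b⟩ <;> rw [a, b]
      exact swap_comm _ _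
  have hrk : ((σr hn : Perm (Fin n)) ^ k) (pt hn 3) = x := hk
  rw [show (σr hn : Perm (Fin n)) ^ k * (swap (pt hn 0) (pt hn 1) * swap (pt hn 2) (pt hn 3))
      * ((σr hn : Perm (Fin n)) ^ k)⁻¹
    = ((σr hn : Perm (Fin n)) ^ k * swap (pt hn 0) (pt hn 1) * ((σr hn : Perm (Fin n)) ^ k)⁻¹)
      * ((σr hn : Perm (Fin n)) ^ k * swap (pt hn 2) (pt hn 3) * ((σr hn : Perm (Fin n)) ^ k)⁻¹)
      by group, ← swap_apply_apply, ← swap_apply_apply, hswap, hr2, hrk]
  have hcomm : swap (pt hn 2) x * swap (pt hn 0) (pt hn 1) = swap (pt hn 0) (pt hn 1) * swap (pt hn 2) x := by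
    have := swap_apply_apply (swap (pt hn 2) x) (pt hn 0) (pt hn 1)
    rw [swap_apply_of_ne_of_ne (pt_ne hn (by decide)) hxS.2.symm,
      swap_apply_of_ne_of_ne (pt_ne hn (by decide)) hxS.1.symm] at this
    exact (mul_inv_eq_iff_eq_mul.1 this.symm)
  rw [cyc, mul_assoc, ← mul_assoc (swap (pt hn 2) x), hcomm, mul_assoc, ← mul_assoc (swap (pt hn 0) (pt hn 1)),
    swap_mul_self, one_mul]

end CfsgLib.Presentations.SLTight
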