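import Mathlib
import Cfsg.Agent.Lib.Presentations.SLGlue
import Cfsg.Agent.Lib.Presentations.SLTight.Block
import Cfsg.Agent.Lib.Presentations.SLTight.Perms

/-!
Five identifications force the special linear group.
-/

set_option autoImplicit false
set_option linter.unusedSectionVars false

namespace CfsgLib.Presentations.SLTight

open Equiv Equiv.Perm Matrix
open Carmichael
open Multiplicative (ofAdd)
open CfsgLib.SL2Pres (IsConjHom)
open CfsgLib.SL3Pres (mX mY mC mH mDiag mRoot)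

variable {F : Type*} [Field F] [Fintype F] {n : ℕ} (hn : 4 ≤ n)


/-- What the long permutation does to the block. -/
noncomputable def phi :
    Matrix.SpecialLinearGroup (Fin 3) F →* Matrix.SpecialLinearGroup (Fin 3) F :=
  if (σr hn : Perm (Fin n)) (pt hn 0) = pt hn 0 then MonoidHom.id _ else swB

theorem phi_cases :
    ((σr hn : Perm (Fin n)) (pt hn 0) = pt hn 0 ∧ (σr hn : Perm (Fin n)) (pt hn 1) = pt hn 1 ∧
      phi (F := F) hn = MonoidHom.id _) ∨
    ((σr hn : Perm (Fin n)) (pt hn 0) = pt hn 1 ∧ (σr hn : Perm (Fin n)) (pt hn 1) = pt hn 0 ∧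
      phi (F := F) hn = swB) := by
  classical
  rcases σr_pair hn with ⟨a, b⟩ | ⟨a, b⟩
  · exact Or.inl ⟨a, b, if_pos a⟩
  · exact Or.inr ⟨a, b, if_neg (by rw [a]; exact pt_ne hn (by decide))⟩

set_option maxHeartbeats 1000000 in
theorem sl_forced {t : Fˣ} (ht : ∀ x : Fˣ, ∃ k : ℕ, t ^ k = x) {Γ : Type} [Group Γ]
    (α : alternatingGroup (Fin n) →* Γ) (β : Matrix.SpecialLinearGroup (Fin 3) F →* Γ)
    (rc : α (σc hn) = β (mC F))
    (rr : ∀ y, α (σr hn) * β y * (α (σr hn))⁻¹ = β (phi hn y))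
    (ru : α (σi hn) * β (mX F (ofAdd 1)) * (α (σi hn))⁻¹ = β (mRoot F 1 0 (by decide) (ofAdd 1)))
    (rd : α (σi hn) * β (mDiag F t t⁻¹) * (α (σi hn))⁻¹ = β (mDiag F t t⁻¹)⁻¹)
    (r4 : Commute (β (mX F (ofAdd 1))) (α (σp hn) * β (mX F (ofAdd 1)) * (α (σp hn))⁻¹)) :
    ∃ Ψ : Matrix.SpecialLinearGroup (Fin n) F →* Γ,
      Ψ.comp (altMat F n) = α ∧ Ψ.comp (blockMat F (Nat.le_of_succ_le hn)) = β := by
  classical
  have h3 : 3 ≤ n := Nat.le_of_succ_le hn
  let e : Fin 3 → Fin n := e3 hn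
  let i3 : Fin n := pt hn 3
  have he : Function.Injective e := Fin.castLE_injective h3
  have he3 : ∀ a, e a ≠ i3 := e3_ne_three hn
  have h01 : e 0 ≠ e 1 := he.ne (by decide)
  have h02 : e 0 ≠ e 2 := he.ne (by decide)
  have h12 : e 1 ≠ e 2 := he.ne (by decide)
  obtain ⟨hc0, hc1, hc2, hcfix⟩ := σc_apply hn
  obtain ⟨hi0, hi1, hi2, hi3'⟩ := σi_apply hn
  obtain ⟨hp0, hp1, hp2, hp3⟩ := σp_apply hn
  obtain ⟨hs0, hs1, hs2⟩ := σs_apply hn
  set f := altMat F n
  set g := blockMat F h3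
  let E : ∀ {i j : Fin n}, i ≠ j → F → Matrix.SpecialLinearGroup (Fin n) F :=
    fun hij c => Matrix.SpecialLinearGroup.transvection hij c
  have hgR : ∀ (i j : Fin 3) (hij : i ≠ j) (c : F),
      g (mRoot F i j hij (ofAdd c)) = E (he.ne hij) c := fun i j hij c => blockMat_root h3 hij c
  have hEc : ∀ (σ : alternatingGroup (Fin n)) {i j i' j' : Fin n} (hij : i ≠ j) (hij' : i' ≠ j')
      (c : F), (σ : Perm (Fin n)) i = i' → (σ : Perm (Fin n)) j = j' →
      f σ * E hij c * (f σ)⁻¹ = E hij' c := by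
    intro σ i j i' j' hij hij' c e1 e2
    subst e1 e2
    exact altMat_conj σ hij c
  have hEcomm : ∀ {i j k l : Fin n} (hij : i ≠ j) (hkl : k ≠ l), j ≠ k → l ≠ i → ∀ a b : F,
      Commute (E hij a) (E hkl b) := by
    intro i j k l hij hkl hjk hli a b
    refine Subtype.ext ?_
    show Matrix.transvection i j a * Matrix.transvection k l b
      = Matrix.transvection k l b * Matrix.transvection i j a
    simp only [Matrix.transvection, add_mul, mul_add, one_mul, mul_one,
      Matrix.single_mul_single_of_ne _ _ _ _ hjk, Matrix.single_mul_single_of_ne _ _ _ _ hli]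
    abel
  have hfc : f (σc hn) = g (mC F) := permMat_mC h3 (σc hn) hc0 hc1 hc2 hcfix
  let A := alternatingGroup (Fin n)
  let X : Multiplicative F →* Γ := β.comp (mX F)
  let X' : Multiplicative F →* Γ := β.comp (mRoot F 1 0 (by decide))
  set d : Matrix.SpecialLinearGroup (Fin 3) F := mDiag F t t⁻¹ with hd
  have hspan := span_sq (F := F) ht
  have hX : IsConjHom ((t : F) ^ 2) X (β d) := fun c => by
    show β d * β (mX F (ofAdd c)) * (β d)⁻¹ = β (mX F _)
    rw [← map_inv, ← map_mul, ← map_mul, hd, SL3Pres.mDiag_conj]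
    congr 3; simp [pow_two]
  -- the involution exchanges the two root groups
  have hflipi : ∀ a, α (σi hn) * X (ofAdd a) * (α (σi hn))⁻¹ = X' (ofAdd a) := by
    intro a
    let Z : Multiplicative F →* Γ := (MulAut.conj (α (σi hn))).toMonoidHom.comp X
    have hZ : IsConjHom ((t : F) ^ 2) Z (β d⁻¹) := fun c => by
      show β d⁻¹ * (α (σi hn) * X (ofAdd c) * (α (σi hn))⁻¹) * (β d⁻¹)⁻¹
        = α (σi hn) * X (ofAdd _) * (α (σi hn))⁻¹
      rw [← rd, ← hX c]; group
    have hW : IsConjHom ((t : F) ^ 2) X' (β d⁻¹) := fun c => by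
      show β d⁻¹ * β (mRoot F 1 0 _ (ofAdd c)) * (β d⁻¹)⁻¹ = β (mRoot F 1 0 _ _)
      rw [← map_inv, ← map_mul, ← map_mul, hd, mDiag_inv, inv_inv, mDiag_conj10]
      congr 3; simp [pow_two, div_eq_mul_inv]
    obtain ⟨P, hP⟩ := hspan a
    have e1 := hZ.polyWord_eq 1 P
    have e2 := hW.polyWord_eq 1 P
    rw [pow_one, hP] at e1 e2
    show Z (ofAdd a) = X' (ofAdd a)
    rw [← e1, ← e2]
    congr 1
  have hflipi' : ∀ a, α (σi hn) * X' (ofAdd a) * (α (σi hn))⁻¹ = X (ofAdd a) := fun a => by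
    rw [← hflipi, show α (σi hn) * (α (σi hn) * X (ofAdd a) * (α (σi hn))⁻¹) * (α (σi hn))⁻¹
      = α (σi hn) * α (σi hn) * X (ofAdd a) * (α (σi hn) * α (σi hn))⁻¹ by group, ← map_mul,
      σi_mul_self, map_one, one_mul, inv_one, mul_one]
  let Fix : A → Prop := fun h => ∀ a, α h * X (ofAdd a) * (α h)⁻¹ = X (ofAdd a) ∧
    α h * X' (ofAdd a) * (α h)⁻¹ = X' (ofAdd a)
  let Flip : A → Prop := fun h => ∀ a, α h * X (ofAdd a) * (α h)⁻¹ = X' (ofAdd a) ∧
    α h * X' (ofAdd a) * (α h)⁻¹ = X (ofAdd a)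
  have hfi : Flip (σi hn) := fun a => ⟨hflipi a, hflipi' a⟩
  have hconj2 : ∀ (h k : A) (q : Γ),
      α (h * k) * q * (α (h * k))⁻¹ = α h * (α k * q * (α k)⁻¹) * (α h)⁻¹ := fun h k q => by
    rw [map_mul]; group
  have hinvq : ∀ (h : A) (q q' : Γ), α h * q * (α h)⁻¹ = q' → α h⁻¹ * q' * (α h⁻¹)⁻¹ = q :=
    fun h q q' e => by rw [← e, map_inv]; group
  let KFix : Subgroup A :=
    { carrier := {h | Fix h}
      one_mem' := fun a => by simp
      mul_mem' := fun {h k} hh hk a => by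
        rw [hconj2, hconj2, (hk a).1, (hk a).2]; exact hh a
      inv_mem' := fun {h} hh a => ⟨hinvq h _ _ (hh a).1, hinvq h _ _ (hh a).2⟩ }
  have hrcase : Fix (σr hn) ∨ Flip (σr hn) := by
    rcases phi_cases (F := F) hn with ⟨-, -, hphi⟩ | ⟨-, -, hphi⟩
    · exact Or.inl fun a => ⟨by rw [MonoidHom.comp_apply, rr, hphi]; rfl,
        by rw [MonoidHom.comp_apply, rr, hphi]; rfl⟩
    · exact Or.inr fun a => ⟨by rw [MonoidHom.comp_apply, rr, hphi, swB_mX]; rfl,
        by rw [MonoidHom.comp_apply, rr, hphi, swB_m10]; rfl⟩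
  have hrpow : ∀ k : ℕ, Fix (σr hn ^ k) ∨ Flip (σr hn ^ k) := by
    intro k
    induction k with
    | zero => exact Or.inl fun a => by simp
    | succ k ih =>
      rw [pow_succ']
      rcases hrcase with h1 | h1 <;> rcases ih with h2 | h2
      · exact Or.inl fun a => by rw [hconj2, hconj2, (h2 a).1, (h2 a).2]; exact h1 a
      · exact Or.inr fun a => by rw [hconj2, hconj2, (h2 a).1, (h2 a).2]; exact ⟨(h1 a).2, (h1 a).1⟩
      · exact Or.inr fun a => by rw [hconj2, hconj2, (h2 a).1, (h2 a).2]; exact h1 a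
      · exact Or.inl fun a => by rw [hconj2, hconj2, (h2 a).1, (h2 a).2]; exact ⟨(h1 a).2, (h1 a).1⟩
  have hk : ∀ k, σk hn k * σi hn ∈ KFix := by
    intro k a
    rw [hconj2, hconj2, (hfi a).1, (hfi a).2, σk, hconj2, hconj2, hconj2, hconj2]
    rcases hrpow k with h1 | h1
    · rw [hinvq _ _ _ (h1 a).1, hinvq _ _ _ (h1 a).2, (hfi a).1, (hfi a).2]
      exact ⟨(h1 a).1, (h1 a).2⟩
    · rw [hinvq _ _ _ (h1 a).1, hinvq _ _ _ (h1 a).2, (hfi a).1, (hfi a).2]
      exact ⟨(h1 a).2, (h1 a).1⟩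
  have hfixX : ∀ h : A, (h : Perm (Fin n)) (e 0) = e 0 → (h : Perm (Fin n)) (e 1) = e 1 →
      ∀ a, α h * X (ofAdd a) * (α h)⁻¹ = X (ofAdd a) :=
    fun h a b c => (stab_le hn KFix hk h a b c).1
  have hexist : ∀ i j : Fin n, ∃ h : A, i ≠ j →
      (h : Perm (Fin n)) (e 0) = i ∧ (h : Perm (Fin n)) (e 1) = j := by
    intro i j
    by_cases hij : i = j
    · exact ⟨1, fun h => absurd hij h⟩
    obtain ⟨π, hπ⟩ := Equiv.Perm.exists_extending_pair (![e 0, e 1]) (![i, j])
      (by intro a b; fin_cases a <;> fin_cases b <;> simp [h01, h01.symm])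
      (by intro a b; fin_cases a <;> fin_cases b <;> simp [hij, Ne.symm hij])
    have p0 := hπ 0; have p1 := hπ 1
    simp at p0 p1
    rcases Int.units_eq_one_or (sign π) with hs | hs
    · exact ⟨⟨π, Equiv.Perm.mem_alternatingGroup.2 hs⟩, fun _ => ⟨p0, p1⟩⟩
    · refine ⟨⟨π * swap (e 2) i3, Equiv.Perm.mem_alternatingGroup.2 (by
        rw [map_mul, hs, sign_swap (he3 2)]; rfl)⟩, fun _ => ⟨?_, ?_⟩⟩
      · show π (swap (e 2) i3 (e 0)) = i
        rw [swap_apply_of_ne_of_ne h02 (he3 0), p0]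
      · show π (swap (e 2) i3 (e 1)) = j
        rw [swap_apply_of_ne_of_ne h12 (he3 1), p1]
  choose mv hmv using hexist
  let x : Fin n → Fin n → F → Γ := fun i j a => α (mv i j) * X (ofAdd a) * (α (mv i j))⁻¹
  have hx_eq : ∀ (h : A) (i j : Fin n), i ≠ j → (h : Perm (Fin n)) (e 0) = i →
      (h : Perm (Fin n)) (e 1) = j → ∀ a, α h * X (ofAdd a) * (α h)⁻¹ = x i j a := by
    intro h i j hij e0 e1 a
    obtain ⟨m0, m1⟩ := hmv i j hij
    have := hfixX ((mv i j)⁻¹ * h)
      (by rw [Subgroup.coe_mul, Subgroup.coe_inv, Perm.mul_apply, Perm.inv_eq_iff_eq, e0, m0])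
      (by rw [Subgroup.coe_mul, Subgroup.coe_inv, Perm.mul_apply, Perm.inv_eq_iff_eq, e1, m1]) a
    rw [map_mul, map_inv] at this
    show _ = α (mv i j) * X (ofAdd a) * (α (mv i j))⁻¹
    conv_rhs => rw [← this]
    group
  have hequiv : ∀ (h : A) (i j : Fin n), i ≠ j → ∀ a,
      α h * x i j a * (α h)⁻¹ = x ((h : Perm (Fin n)) i) ((h : Perm (Fin n)) j) a := by
    intro h i j hij a
    obtain ⟨m0, m1⟩ := hmv i j hij
    rw [← hx_eq (h * mv i j) _ _ ((h : Perm (Fin n)).injective.ne hij)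
      (by rw [Subgroup.coe_mul, Perm.mul_apply, m0]) (by rw [Subgroup.coe_mul, Perm.mul_apply, m1]) a,
      map_mul]
    show α h * (α (mv i j) * X (ofAdd a) * (α (mv i j))⁻¹) * (α h)⁻¹ = _
    group
  have hx01 : ∀ a, x (e 0) (e 1) a = X (ofAdd a) := fun a => by
    rw [← hx_eq 1 (e 0) (e 1) h01 rfl rfl a, map_one, one_mul, inv_one, mul_one]
  have hshift : ∀ (i j : Fin 3) (hij : i ≠ j), (∀ a, x (e i) (e j) a = β (mRoot F i j hij (ofAdd a))) →
      ∀ a, x (e (i + 1)) (e (j + 1)) a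
        = β (mRoot F (i + 1) (j + 1) (fun h => hij (add_right_cancel h)) (ofAdd a)) := by
    intro i j hij hprev a
    have hcyc : ∀ k : Fin 3, ((σc hn) : Perm (Fin n)) (e k) = e (k + 1) := by
      intro k; fin_cases k
      exacts [hc0, hc1, hc2]
    rw [← hcyc, ← hcyc, ← hequiv (σc hn) _ _ (he.ne hij), hprev, rc, ← map_inv, ← map_mul, ← map_mul,
      SL3Pres.mC_shift]
  have base01 : ∀ a, x (e 0) (e 1) a = β (mRoot F 0 1 (by decide) (ofAdd a)) := hx01
  have base10 : ∀ a, x (e 1) (e 0) a = β (mRoot F 1 0 (by decide) (ofAdd a)) := fun a => by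
    rw [← hx_eq (σi hn) (e 1) (e 0) h01.symm hi0 hi1 a]
    exact hflipi a
  have base : ∀ (i j : Fin 3) (hij : i ≠ j), ∀ a, x (e i) (e j) a = β (mRoot F i j hij (ofAdd a)) := by
    have b12 := hshift 0 1 (by decide) base01
    have b20 := hshift 1 2 (by decide) b12
    have b21 := hshift 1 0 (by decide) base10
    have b02 := hshift 2 1 (by decide) b21
    intro i j hij
    fin_cases i <;> fin_cases j <;> first
      | exact absurd rfl hij
      | exact base01 | exact base10 | exact b12 | exact b20 | exact b02 | exact b21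
  have htriple : ∀ i j k : Fin n, i ≠ j → j ≠ k → i ≠ k → ∃ (h : A) (i' j' k' : Fin 3),
      (i' ≠ j' ∧ j' ≠ k' ∧ i' ≠ k') ∧ (h : Perm (Fin n)) (e i') = i ∧
        (h : Perm (Fin n)) (e j') = j ∧ (h : Perm (Fin n)) (e k') = k := by
    intro i j k hij hjk hik
    obtain ⟨π, hπ⟩ := Equiv.Perm.exists_extending_pair e (![i, j, k]) he
      (by intro a b; fin_cases a <;> fin_cases b <;>
        simp [hij, hij.symm, hjk, hjk.symm, hik, hik.symm])
    have p0 := hπ 0; have p1 := hπ 1; have p2 := hπ 2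
    simp at p0 p1 p2
    rcases Int.units_eq_one_or (sign π) with hs | hs
    · exact ⟨⟨π, Equiv.Perm.mem_alternatingGroup.2 hs⟩, 0, 1, 2, by decide, p0, p1, p2⟩
    · refine ⟨⟨π * swap (e 0) (e 1), Equiv.Perm.mem_alternatingGroup.2 (by
        rw [map_mul, hs, sign_swap h01]; rfl)⟩, 1, 0, 2, by decide, ?_, ?_, ?_⟩
      · show π (swap (e 0) (e 1) (e 1)) = i
        rw [swap_apply_right, p0]
      · show π (swap (e 0) (e 1) (e 0)) = j
        rw [swap_apply_left, p1]
      · show π (swap (e 0) (e 1) (e 2)) = k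
        rw [swap_apply_of_ne_of_ne h02.symm h12.symm, p2]
  have hconjC : ∀ (h : A) {p q : Γ}, Commute p q →
      Commute (α h * p * (α h)⁻¹) (α h * q * (α h)⁻¹) := fun h p q hpq => by
    show _ = _
    rw [conj_mul, conj_mul, hpq.eq]
  have hadd : ∀ i j a b, x i j (a + b) = x i j a * x i j b := fun i j a b => by
    simp only [x]
    rw [ofAdd_add, map_mul]; group
  have hcomm_same : ∀ i j a b, Commute (x i j a) (x i j b) := fun i j a b => by
    show _ = _
    rw [← hadd, ← hadd, add_comm]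
  have htwo : ∀ i j k : Fin n, i ≠ j → j ≠ k → i ≠ k → ∀ a b,
      Commute (x i j a) (x i k b) ∧ Commute (x i k a) (x j k b) ∧
        x i j a * x j k b * (x i j a)⁻¹ = x i k (a * b) * x j k b := by
    intro i j k hij hjk hik a b
    obtain ⟨h, i', j', k', ⟨nij, njk, nik⟩, pi, pj, pk⟩ := htriple i j k hij hjk hik
    subst pi pj pk
    rw [← hequiv h _ _ (he.ne nij), ← hequiv h _ _ (he.ne njk), ← hequiv h _ _ (he.ne nik),
      ← hequiv h _ _ (he.ne nik), ← hequiv h _ _ (he.ne nik), base i' j' nij, base j' k' njk,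
      base i' k' nik, base i' k' nik, base i' k' nik]
    refine ⟨hconjC h ((SL3Pres.mRoot_commute i' j' i' k' nij nik nij.symm nik.symm a b).map β),
      hconjC h ((SL3Pres.mRoot_commute i' k' j' k' nik njk njk.symm nik.symm a b).map β), ?_⟩
    have e0 := congrArg β (comm_cm (SL3Pres.mRoot_cm i' j' k' nij njk nik a b))
    simp only [map_mul, map_inv] at e0
    rw [conj_inv, conj_mul, conj_mul, conj_mul, e0]
  -- disjoint pairs
  have hγ : ∀ (i j : Fin 3) (hij : i ≠ j) a,
      α (σs hn) * β (mRoot F i j hij (ofAdd a)) * (α (σs hn))⁻¹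
        = x ((σs hn : Perm (Fin n)) (e i)) ((σs hn : Perm (Fin n)) (e j)) a := fun i j hij a => by
    rw [← base i j hij, hequiv (σs hn) _ _ (he.ne hij)]
  have hH : α (σs hn) * β d * (α (σs hn))⁻¹ = β (mH t) := by
    rw [← Wd_zero_two, hd, ← Wd_zero_one]
    simp only [Wd, map_mul, conj_mul.symm, hγ]
    simp only [← base]
    rw [show (σs hn : Perm (Fin n)) (e 0) = e 0 from hs0, show (σs hn : Perm (Fin n)) (e 1) = e 2 from hs1]
  have hH03 : ∀ b, β (mH t) * x (e 0) i3 b * (β (mH t))⁻¹ = x (e 0) i3 ((t : F) * b) := fun b => by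
    have e' : ∀ c, x (e 0) i3 c = α (σs hn) * β (mRoot F 0 2 (by decide) (ofAdd c)) * (α (σs hn))⁻¹ :=
      fun c => by
        rw [hγ, show (σs hn : Perm (Fin n)) (e 0) = e 0 from hs0,
          show (σs hn : Perm (Fin n)) (e 2) = i3 from hs2]
    rw [e', e', ← hH, conj_inv, conj_mul, conj_mul, ← map_inv, ← map_mul, ← map_mul]
    congr 3
    show d * mY F (ofAdd b) * d⁻¹ = mY F (ofAdd ((t : F) * b))
    rw [hd, mDiag_conj02]
    congr 2
    simp
  have hH23 : ∀ b, β (mH t) * x (e 2) i3 b * (β (mH t))⁻¹ = x (e 2) i3 (((t⁻¹ : Fˣ) : F) * b) := fun b => by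
    have e' : ∀ c, x (e 2) i3 c = α (σs hn) * β (mRoot F 1 2 (by decide) (ofAdd c)) * (α (σs hn))⁻¹ :=
      fun c => by
        rw [hγ, show (σs hn : Perm (Fin n)) (e 1) = e 2 from hs1,
          show (σs hn : Perm (Fin n)) (e 2) = i3 from hs2]
    rw [e', e', ← hH, conj_inv, conj_mul, conj_mul, ← map_inv, ← map_mul, ← map_mul]
    congr 3
    rw [hd, mDiag_conj12]
    congr 2
    simp
  have hdc : ∀ b, Commute (β d) (x (e 2) i3 b) := fun b => by
    have hcc : ∀ c, α (σc hn * σc hn) * x (e 0) i3 c * (α (σc hn * σc hn))⁻¹ = x (e 2) i3 c := fun c => by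
      rw [hequiv _ _ _ (he3 0)]
      congr 1
    have hD : β (mC F * mC F * mH t * (mC F * mC F)⁻¹) * x (e 2) i3 b
        * (β (mC F * mC F * mH t * (mC F * mC F)⁻¹))⁻¹ = x (e 2) i3 ((t : F) * b) := by
      rw [← hcc b, ← hcc, ← hH03 b, map_mul β, map_mul β, map_inv β, map_mul β, ← rc, ← map_mul α]
      group
    show β d * x (e 2) i3 b = x (e 2) i3 b * β d
    refine mul_inv_eq_iff_eq_mul.1 ?_
    rw [hd, ← torus_split t, map_mul β (mH t),
      show ∀ p q r : Γ, p * q * r * (p * q)⁻¹ = p * (q * r * q⁻¹) * p⁻¹ from fun p q r => by group,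
      hD, hH23, ← mul_assoc, ← Units.val_mul, inv_mul_cancel, Units.val_one, one_mul]
  have hswap : ∀ a, α (σp hn) * x (e 2) i3 a * (α (σp hn))⁻¹ = x (e 0) (e 1) a ∧
      α (σp hn) * x (e 0) (e 1) a * (α (σp hn))⁻¹ = x (e 2) i3 a := fun a => by
    rw [hequiv _ _ _ (he3 2), hequiv _ _ _ h01]
    exact ⟨by congr 1, by congr 1⟩
  have hu23 : ∀ a, Commute (X (ofAdd 1)) (x (e 2) i3 a) := by
    intro a
    have h1 : Commute (x (e 2) i3 1) (X (ofAdd a)) := by
      refine commute_of_span hX hspan ?_ (hdc 1).symm a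
      rw [← (hswap 1).2, hx01]
      exact r4.symm
    have h2 := hconjC (σp hn) h1
    rw [(hswap 1).1, ← hx01 a, (hswap a).2, hx01] at h2
    exact h2
  have comm01 : ∀ a b, Commute (x (e 0) (e 1) a) (x (e 2) i3 b) := fun a b => by
    rw [hx01]
    exact (commute_of_span hX hspan (hu23 b).symm (hdc b).symm a).symm
  have comm03 : ∀ p c, Commute (x (e 0) i3 p) (x (e 2) (e 1) c) := by
    intro p c
    obtain ⟨-, -, t023⟩ := htwo (e 0) (e 2) i3 h02 (he3 2) (he3 0) 1 (-p)
    obtain ⟨-, -, t021⟩ := htwo (e 0) (e 2) (e 1) h02 h12.symm h01 1 c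
    obtain ⟨row2, -, -⟩ := htwo (e 2) i3 (e 1) (he3 2) (he3 1).symm h12.symm (-p) c
    obtain ⟨row01, -, -⟩ := htwo (e 0) i3 (e 1) (he3 0) (he3 1).symm h01 (-p) c
    obtain ⟨-, col03, -⟩ := htwo (e 0) (e 2) i3 h02 (he3 2) (he3 0) (-p) (-p)
    rw [one_mul] at t023 t021
    set Z := x (e 2) i3 (-p)
    set U := x (e 0) (e 2) 1
    set W := x (e 2) (e 1) c
    set S := x (e 0) i3 (-p)
    set P := x (e 0) (e 1) c
    have hPZ : Commute Z P := (comm01 c (-p)).symm
    have e1 : U * W * U⁻¹ = P * W := t021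
    have e2 : Z * U = S⁻¹ * U * Z := by
      calc Z * U = S⁻¹ * (S * Z * U) := by group
        _ = S⁻¹ * (U * Z) := by rw [mul_inv_eq_iff_eq_mul.1 t023]
        _ = S⁻¹ * U * Z := (mul_assoc _ _ _).symm
    have e3 : Z * (U * W * U⁻¹) * Z⁻¹ = P * W := by
      rw [e1, ← mul_assoc, hPZ.eq, mul_assoc P, row2.eq, ← mul_assoc, mul_inv_cancel_right]
    rw [show Z * (U * W * U⁻¹) * Z⁻¹ = (Z * U) * W * (Z * U)⁻¹ by group, e2,
      show S⁻¹ * U * Z * W * (S⁻¹ * U * Z)⁻¹ = S⁻¹ * (U * (Z * W * Z⁻¹) * U⁻¹) * S by group,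
      row2.eq, mul_inv_cancel_right, e1] at e3
    have hSP : Commute S (P * W) := by
      show S * (P * W) = P * W * S
      conv_lhs => rw [← e3]
      group
    have hSW : Commute S W := by
      have := ((row01 : Commute S (x (e 0) (e 1) c)).inv_right).mul_right hSP
      rwa [inv_mul_cancel_left] at this
    have hp : x (e 0) i3 p = S⁻¹ := by
      refine eq_inv_of_mul_eq_one_left ?_
      show x (e 0) i3 p * x (e 0) i3 (-p) = 1
      simp only [x]
      rw [show ∀ q r s : Γ, q * r * q⁻¹ * (q * s * q⁻¹) = q * (r * s) * q⁻¹ from fun q r s => by group,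
        ← map_mul, ← ofAdd_add, add_neg_cancel, ofAdd_zero, map_one, mul_one, mul_inv_cancel]
    rw [hp]
    exact hSW.inv_left
  have hquad : ∀ i j k l : Fin n, i ≠ j → k ≠ l → i ≠ k → i ≠ l → j ≠ k → j ≠ l → ∀ a b,
      Commute (x i j a) (x k l b) := by
    intro i j k l hij hkl hik hil hjk hjl a b
    obtain ⟨π, hπ⟩ := Equiv.Perm.exists_extending_pair (![e 0, e 1, e 2, i3]) (![i, j, k, l])
      (by intro p q; fin_cases p <;> fin_cases q <;>
        simp [h01, h01.symm, h02, h02.symm, h12, h12.symm, he3 0, he3 1, he3 2, (he3 0).symm,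
          (he3 1).symm, (he3 2).symm])
      (by intro p q; fin_cases p <;> fin_cases q <;>
        simp [hij, hij.symm, hkl, hkl.symm, hik, hik.symm, hil, hil.symm, hjk, hjk.symm, hjl,
          hjl.symm])
    have p0 := hπ 0; have p1 := hπ 1; have p2 := hπ 2; have p3 := hπ 3
    simp at p0 p1 p2 p3
    rcases Int.units_eq_one_or (sign π) with hs | hs
    · let h : A := ⟨π, Equiv.Perm.mem_alternatingGroup.2 hs⟩
      have := hconjC h (comm01 a b)
      rw [hequiv h _ _ h01, hequiv h _ _ (he3 2)] at this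
      simpa [h, p0, p1, p2, p3] using this
    · let h : A := ⟨π * swap (e 1) i3, Equiv.Perm.mem_alternatingGroup.2 (by
        rw [map_mul, hs, sign_swap (he3 1)]; rfl)⟩
      have := hconjC h (comm03 a b)
      rw [hequiv h _ _ (he3 0), hequiv h _ _ h12.symm] at this
      simpa [h, Perm.mul_apply, swap_apply_of_ne_of_ne h01 (he3 0),
        swap_apply_of_ne_of_ne h12.symm (he3 2), p0, p1, p2, p3] using this
  have S : CfsgLib.SLSteinberg.StComm x := by
    refine ⟨fun i j t u _ => hadd i j t u, fun i j k l hij hkl hil hjk t u => ?_,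
      fun i j k hij hjk hik t u => (htwo i j k hij hjk hik t u).2.2⟩
    by_cases hik : i = k
    · subst hik
      by_cases hjl : j = l
      · subst hjl; exact hcomm_same i j t u
      · exact (htwo i j l hij hjl hil t u).1
    · by_cases hjl : j = l
      · subst hjl; exact (htwo i k j hik (Ne.symm hjk) hij t u).2.1
      · exact hquad i j k l hij hkl hik hil hjk hjl t u
  have hthird : ∀ a b : Fin n, ∃ c, c ≠ a ∧ c ≠ b := by
    intro a b
    obtain ⟨c, -, hc⟩ := Finset.exists_mem_notMem_of_card_lt_card (s := ({a, b} : Finset (Fin n)))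
      (t := Finset.univ) (lt_of_le_of_lt Finset.card_le_two (by simp; omega))
    simp only [Finset.mem_insert, Finset.mem_singleton, not_or] at hc
    exact ⟨c, hc.1, hc.2⟩
  let P : Fin n → Fin n → F → Matrix.SpecialLinearGroup (Fin n) F × Γ := fun i j a =>
    if h : i = j then 1 else (E h a, x i j a)
  have hPne : ∀ {i j : Fin n} (h : i ≠ j) a, P i j a = (E h a, x i j a) := fun h a => dif_neg h
  let N : Subgroup (Matrix.SpecialLinearGroup (Fin n) F × Γ) :=
    Subgroup.closure {p | ∃ i j, i ≠ j ∧ ∃ a, p = P i j a}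
  let P' : Fin n → Fin n → F → N := fun i j a => ⟨P i j a, by
    by_cases h : i = j
    · simp only [P, dif_pos h]; exact one_mem N
    · exact Subgroup.subset_closure ⟨i, j, h, a, rfl⟩⟩
  have hEadd : ∀ {i j : Fin n} (h : i ≠ j) (a b : F), E h (a + b) = E h a * E h b := fun h a b =>
    Subtype.ext (Matrix.transvection_mul_transvection_same _ _ h a b).symm
  have hE1 : ∀ {i j k : Fin n} (hij : i ≠ j) (hjk : j ≠ k) (hik : i ≠ k) (a b : F),
      E hij a * E hjk b * (E hij a)⁻¹ = E hik (a * b) * E hjk b := by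
    intro i j k hij hjk hik a b
    rw [mul_inv_eq_iff_eq_mul]
    refine Subtype.ext ?_
    show Matrix.transvection i j a * Matrix.transvection j k b
      = Matrix.transvection i k (a * b) * Matrix.transvection j k b * Matrix.transvection i j a
    simp only [Matrix.transvection, add_mul, mul_add, one_mul, mul_one,
      Matrix.single_mul_single_same, Matrix.single_mul_single_of_ne _ _ _ _ hjk.symm,
      Matrix.single_mul_single_of_ne _ _ _ _ hik.symm, zero_mul]
    abel
  have SP : CfsgLib.SLSteinberg.StComm P' := by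
    refine ⟨fun i j t u hij => Subtype.ext ?_, fun i j k l hij hkl hil hjk t u => Subtype.ext ?_,
      fun i j k hij hjk hik t u => Subtype.ext ?_⟩
    · show P i j (t + u) = P i j t * P i j u
      rw [hPne hij, hPne hij, hPne hij, hEadd, hadd]; rfl
    · show P i j t * P k l u = P k l u * P i j t
      rw [hPne hij, hPne hkl]
      exact Prod.ext (hEcomm hij hkl hjk hil.symm t u).eq (S.comm0 i j k l hij hkl hil hjk t u).eq
    · show P i j t * P j k u * (P i j t)⁻¹ = P i k (t * u) * P j k u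
      rw [hPne hij, hPne hjk, hPne hik]
      exact Prod.ext (hE1 hij hjk hik t u) (S.comm1 i j k hij hjk hik t u)
  let π : N →* Matrix.SpecialLinearGroup (Fin n) F := (MonoidHom.fst _ _).comp N.subtype
  have hπP : ∀ {i j : Fin n} (h : i ≠ j) a, π (P' i j a) = E h a := fun h a => by
    show (P _ _ a).1 = _
    rw [hPne h]
  have hinj : Function.Injective π := by
    refine CfsgLib.SLSteinberg.exists_hom P' (SP.toRel hthird) π (fun i j a hij => ?_) ?_
    · rw [hπP hij]; rfl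
    · refine (Subgroup.map_injective N.subtype_injective ?_)
      rw [MonoidHom.map_closure, ← MonoidHom.range_eq_map, Subgroup.range_subtype]
      refine congrArg Subgroup.closure (Set.ext fun p => ⟨?_, ?_⟩)
      · rintro ⟨q, ⟨i, j, h, a, rfl⟩, rfl⟩
        exact ⟨i, j, h, a, rfl⟩
      · rintro ⟨i, j, h, a, rfl⟩
        exact ⟨P' i j a, ⟨i, j, h, a, rfl⟩, rfl⟩
  have hsurj : Function.Surjective π := by
    rw [← MonoidHom.range_eq_top]
    exact CfsgLib.Classical.SL_le_of_transvections _ fun i j hij a => ⟨P' i j a, hπP hij a⟩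
  let φ := MulEquiv.ofBijective π ⟨hinj, hsurj⟩
  let Ψ : Matrix.SpecialLinearGroup (Fin n) F →* Γ :=
    ((MonoidHom.snd _ _).comp N.subtype).comp φ.symm.toMonoidHom
  have hΨ : ∀ {i j : Fin n} (h : i ≠ j) a, Ψ (E h a) = x i j a := by
    intro i j h a
    have : φ.symm (E h a) = P' i j a := by
      rw [MulEquiv.symm_apply_eq]; exact (hπP h a).symm
    show (φ.symm (E h a) : Matrix.SpecialLinearGroup (Fin n) F × Γ).2 = _
    rw [this]
    show (P i j a).2 = _
    rw [hPne h]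
  have hΨg : Ψ.comp g = β := by
    have : MonoidHom.eqLocus (Ψ.comp g) β = ⊤ :=
      CfsgLib.Classical.SL_le_of_transvections _ fun i j hij a => by
        show Ψ (g (mRoot F i j hij (ofAdd a))) = β (mRoot F i j hij (ofAdd a))
        rw [hgR, hΨ, base i j hij]
    exact MonoidHom.ext fun m => (this ▸ Subgroup.mem_top m : m ∈ MonoidHom.eqLocus (Ψ.comp g) β)
  have hΨequiv : ∀ (h : A) y, α h * Ψ y * (α h)⁻¹ = Ψ (f h * y * (f h)⁻¹) := by
    intro h
    have : MonoidHom.eqLocus ((MulAut.conj (α h)).toMonoidHom.comp Ψ)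
        (Ψ.comp (MulAut.conj (f h)).toMonoidHom) = ⊤ :=
      CfsgLib.Classical.SL_le_of_transvections _ fun i j hij a => by
        show α h * Ψ (E hij a) * (α h)⁻¹ = Ψ (f h * E hij a * (f h)⁻¹)
        rw [hΨ, hEc h hij ((h : Perm (Fin n)).injective.ne hij) a rfl rfl, hΨ, hequiv h i j hij]
    intro y
    exact (this ▸ Subgroup.mem_top y : y ∈ MonoidHom.eqLocus _ _)
  refine ⟨Ψ, ?_, hΨg⟩
  let K : Subgroup A := MonoidHom.eqLocus (Ψ.comp f) α
  have hc0' : (σc hn) ∈ K := by
    show Ψ (f (σc hn)) = α (σc hn)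
    rw [hfc, rc]; exact DFunLike.congr_fun hΨg _
  have hK : K = ⊤ := by
    have hKn : ∀ k ∈ K, ∀ h : A, h * k * h⁻¹ ∈ K := fun k (hk : Ψ (f k) = α k) h => by
      show Ψ (f (h * k * h⁻¹)) = α (h * k * h⁻¹)
      rw [map_mul f, map_mul f, map_inv, ← hΨequiv, hk]
      simp
    rw [eq_top_iff, ← gen_closure h01, Subgroup.closure_le]
    rintro _ ⟨i, rfl⟩
    by_cases hi : i.1 = e 2
    · obtain rfl : i = ⟨e 2, h02.symm, h12.symm⟩ := Subtype.ext hi
      exact hc0'
    let w : A := ⟨swap (e 0) (e 1) * swap (e 2) i.1, by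
      rw [Equiv.Perm.mem_alternatingGroup, map_mul, sign_swap h01, sign_swap (Ne.symm hi)]; rfl⟩
    have : w * (σc hn)⁻¹ * w⁻¹ = gen h01 i := by
      rw [← conj_inv, inv_eq_iff_eq_inv]
      refine Subtype.ext ?_
      show (swap (e 0) (e 1) * swap (e 2) i.1) * cyc (e 0) (e 1) (e 2)
        * (swap (e 0) (e 1) * swap (e 2) i.1)⁻¹ = (cyc (e 0) (e 1) i.1)⁻¹
      rw [conj_cyc]
      simp only [Perm.mul_apply, swap_apply_of_ne_of_ne h02 (Ne.symm i.2.1),
        swap_apply_of_ne_of_ne h12 (Ne.symm i.2.2), swap_apply_left, swap_apply_right,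
        swap_apply_of_ne_of_ne i.2.1 i.2.2]
      rw [cyc, cyc, _root_.mul_inv_rev, swap_inv, swap_inv, Equiv.swap_comm (e 1) (e 0)]
      have := swap_apply_apply (swap (e 0) (e 1)) (e 0) i.1
      rw [swap_apply_left, swap_apply_of_ne_of_ne i.2.1 i.2.2, swap_inv] at this
      rw [this, mul_assoc, Equiv.swap_mul_self, mul_one]
    show gen h01 i ∈ K
    rw [← this]
    exact hKn _ (inv_mem hc0') w
  exact MonoidHom.ext fun a => (hK ▸ Subgroup.mem_top a : a ∈ K)


end CfsgLib.Presentations.SLTight
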