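import Mathlib
import Cfsg.Agent.Lib.Presentations.Bounded
import Cfsg.Agent.Lib.SL3Pres.Main

/-!
Thirteen relations on SL₃ besides the order of the three-cycle, and gluing which supplies it.
-/

set_option autoImplicit false

namespace CfsgLib.Presentations.SLTight

open CfsgLib.SL3Pres (mX mY mC mH baseRels)
open Multiplicative (ofAdd)

universe u v w

variable {F : Type*} [Field F]

/-- The four generators of `SL₃`. -/
noncomputable def gens (t : Fˣ) : Fin 4 → Matrix.SpecialLinearGroup (Fin 3) F :=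
  ![mX F (ofAdd 1), mH t, mC F, mY F (ofAdd 1)]

theorem sl3_thirteen [Fintype F] {t : Fˣ} (ht : ∀ x : Fˣ, ∃ k : ℕ, t ^ k = x) :
    ∃ L : List (FreeGroup (Fin 4)), L.length ≤ 13 ∧ (∀ r ∈ L, FreeGroup.lift (gens t) r = 1) ∧
      Subgroup.closure (Set.range (gens t)) = ⊤ ∧
      ∀ (Γ : Type) [Group Γ] (f : Fin 4 → Γ), (∀ r ∈ L, FreeGroup.lift f r = 1) → f 2 ^ 3 = 1 →
        ∃ ψ : Matrix.SpecialLinearGroup (Fin 3) F →* Γ, ∀ i, ψ (gens t i) = f i := by
  obtain ⟨E, hE, h1, h2⟩ := CfsgLib.SL3Pres.exists_completes ht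
  obtain ⟨e, he⟩ := CfsgLib.SL3Pres.sl3_iso_of ht (baseRels ++ E) h1 h2
  have hcons : baseRels ++ E = CfsgLib.SL3Pres.g4 2 ^ 3 :: (baseRels.tail ++ E) := rfl
  refine ⟨baseRels.tail ++ E, ?_, fun r hr => h1 r (hcons ▸ List.mem_cons_of_mem _ hr), ?_, ?_⟩
  · have h7 : baseRels.tail.length = 7 := rfl
    rw [List.length_append, h7]
    omega
  · have := congrArg (Subgroup.map e.toMonoidHom)
      (PresentedGroup.closure_range_of {r | r ∈ baseRels ++ E})
    rw [MonoidHom.map_closure, ← Set.range_comp,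
      Subgroup.map_top_of_surjective _ e.surjective] at this
    rw [show gens t = e.toMonoidHom ∘ PresentedGroup.of from funext fun i => (he i).symm]
    exact this
  · intro Γ _ f hf hc
    refine ⟨(PresentedGroup.toGroup (f := f) fun r hr => ?_).comp e.symm.toMonoidHom, fun i => ?_⟩
    · rw [Set.mem_setOf_eq, hcons, List.mem_cons] at hr
      rcases hr with rfl | hr
      · simpa [CfsgLib.SL3Pres.g4] using hc
      · exact hf r hr
    · rw [show gens t i = e (PresentedGroup.of i) from (he i).symm]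
      simp

/-- Gluing, the first relation identifying a generator of finite order with a letter and so
replacing one relation of the second factor. -/
theorem glue_drop {T : Type u} [Group T] {κA κB : Type} {A : Type v} {B : Type w} [Group A]
    [Group B] (f : A →* T) (g : B →* T) {a b k : ℕ} (hA : BoundedOn A κA a) (gB : κB → B)
    (LB : List (FreeGroup κB)) (hLB : LB.length ≤ b) (tB : ∀ r ∈ LB, FreeGroup.lift gB r = 1)
    (cB : Subgroup.closure (Set.range gB) = ⊤) (j : κB)
    (uB : ∀ (Γ : Type) [Group Γ] (φ : κB → Γ), (∀ r ∈ LB, FreeGroup.lift φ r = 1) → φ j ^ k = 1 →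
      ∃ ψ : B →* Γ, ∀ i, ψ (gB i) = φ i)
    (a₀ : A) (ha₀ : a₀ ^ k = 1) (hmatch : f a₀ = g (gB j)) (hgen : f.range ⊔ g.range = ⊤)
    (E : List (FreeGroup (A ⊕ B))) (hE : ∀ e ∈ E, FreeGroup.lift (Sum.elim f g) e = 1)
    (hforce : ∀ (Γ : Type) [Group Γ] (α : A →* Γ) (β : B →* Γ), α a₀ = β (gB j) →
      (∀ e ∈ E, FreeGroup.lift (Sum.elim α β) e = 1) →
        ∃ Ψ : T →* Γ, Ψ.comp f = α ∧ Ψ.comp g = β) :
    BoundedOn T (κA ⊕ κB) (a + b + 1 + E.length) := by
  obtain ⟨gA, LA, hLA, tA, cA, uA⟩ := hA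
  obtain ⟨WA, hWA⟩ := exists_words gA cA
  obtain ⟨WB, hWB⟩ := exists_words gB cB
  let gen : κA ⊕ κB → T := Sum.elim (f ∘ gA) (g ∘ gB)
  let tr : FreeGroup (A ⊕ B) →* FreeGroup (κA ⊕ κB) :=
    FreeGroup.lift (Sum.elim (fun x => FreeGroup.map Sum.inl (WA x))
      (fun x => FreeGroup.map Sum.inr (WB x)))
  have hl : ∀ {Γ : Type u} [Group Γ] (h : κA ⊕ κB → Γ) (w : FreeGroup κA),
      FreeGroup.lift h (FreeGroup.map Sum.inl w) = FreeGroup.lift (h ∘ Sum.inl) w := by
    intro Γ _ h w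
    exact DFunLike.congr_fun (FreeGroup.ext_hom ((FreeGroup.lift h).comp (FreeGroup.map Sum.inl))
      (FreeGroup.lift (h ∘ Sum.inl)) fun i => by simp) w
  have hr : ∀ {Γ : Type u} [Group Γ] (h : κA ⊕ κB → Γ) (w : FreeGroup κB),
      FreeGroup.lift h (FreeGroup.map Sum.inr w) = FreeGroup.lift (h ∘ Sum.inr) w := by
    intro Γ _ h w
    exact DFunLike.congr_fun (FreeGroup.ext_hom ((FreeGroup.lift h).comp (FreeGroup.map Sum.inr))
      (FreeGroup.lift (h ∘ Sum.inr)) fun i => by simp) w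
  have hl' : ∀ {Γ : Type} [Group Γ] (h : κA ⊕ κB → Γ) (w : FreeGroup κA),
      FreeGroup.lift h (FreeGroup.map Sum.inl w) = FreeGroup.lift (h ∘ Sum.inl) w := by
    intro Γ _ h w
    exact DFunLike.congr_fun (FreeGroup.ext_hom ((FreeGroup.lift h).comp (FreeGroup.map Sum.inl))
      (FreeGroup.lift (h ∘ Sum.inl)) fun i => by simp) w
  have hr' : ∀ {Γ : Type} [Group Γ] (h : κA ⊕ κB → Γ) (w : FreeGroup κB),
      FreeGroup.lift h (FreeGroup.map Sum.inr w) = FreeGroup.lift (h ∘ Sum.inr) w := by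
    intro Γ _ h w
    exact DFunLike.congr_fun (FreeGroup.ext_hom ((FreeGroup.lift h).comp (FreeGroup.map Sum.inr))
      (FreeGroup.lift (h ∘ Sum.inr)) fun i => by simp) w
  refine ⟨gen, LA.map (FreeGroup.map Sum.inl) ++ LB.map (FreeGroup.map Sum.inr)
    ++ (FreeGroup.map Sum.inl (WA a₀) * (FreeGroup.of (Sum.inr j))⁻¹) :: E.map tr, ?_, ?_, ?_, ?_⟩
  · simp only [List.length_append, List.length_map, List.length_cons]; omega
  · intro r hr0
    simp only [List.mem_append, List.mem_map, List.mem_cons] at hr0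
    rcases hr0 with (⟨s, hs, rfl⟩ | ⟨s, hs, rfl⟩) | rfl | ⟨s, hs, rfl⟩
    · rw [hl, show gen ∘ Sum.inl = f ∘ gA from rfl, ← lift_natural, tA s hs, map_one]
    · rw [hr, show gen ∘ Sum.inr = g ∘ gB from rfl, ← lift_natural, tB s hs, map_one]
    · rw [map_mul, map_inv, hl, show gen ∘ Sum.inl = f ∘ gA from rfl, ← lift_natural, hWA, hmatch,
        FreeGroup.lift_apply_of]
      exact mul_inv_cancel _
    · refine Eq.trans ?_ (hE s hs)
      exact DFunLike.congr_fun (FreeGroup.ext_hom ((FreeGroup.lift gen).comp tr)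
        (FreeGroup.lift (Sum.elim f g)) fun i => by
          rcases i with x | x
          · simp only [MonoidHom.comp_apply, tr, FreeGroup.lift_apply_of, Sum.elim_inl]
            rw [hl, show gen ∘ Sum.inl = f ∘ gA from rfl, ← lift_natural, hWA]
          · simp only [MonoidHom.comp_apply, tr, FreeGroup.lift_apply_of, Sum.elim_inr]
            rw [hr, show gen ∘ Sum.inr = g ∘ gB from rfl, ← lift_natural, hWB]) s
  · rw [← top_le_iff, ← hgen, sup_le_iff, MonoidHom.range_eq_map, MonoidHom.range_eq_map, ← cA,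
      ← cB, MonoidHom.map_closure, MonoidHom.map_closure, ← Set.range_comp, ← Set.range_comp]
    constructor <;> refine Subgroup.closure_mono ?_ <;> rintro _ ⟨i, rfl⟩
    · exact ⟨Sum.inl i, rfl⟩
    · exact ⟨Sum.inr i, rfl⟩
  · intro Γ _ h hh
    simp only [List.mem_append, List.mem_map, List.mem_cons] at hh
    obtain ⟨α, hα⟩ := uA Γ (h ∘ Sum.inl) fun s hs => by
      rw [← hl']; exact hh _ (Or.inl (Or.inl ⟨s, hs, rfl⟩))
    have hj : α a₀ = h (Sum.inr j) := by
      have := hh _ (Or.inr (Or.inl rfl))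
      rw [map_mul, map_inv, hl', show h ∘ Sum.inl = α ∘ gA from funext fun i => (hα i).symm,
        ← lift_natural, hWA, FreeGroup.lift_apply_of, mul_inv_eq_one] at this
      exact this
    obtain ⟨β, hβ⟩ := uB Γ (h ∘ Sum.inr) (fun s hs => by
      rw [← hr']; exact hh _ (Or.inl (Or.inr ⟨s, hs, rfl⟩))) (by
      rw [Function.comp_apply, ← hj, ← map_pow, ha₀, map_one])
    obtain ⟨Ψ, hΨA, hΨB⟩ := hforce Γ α β (by rw [hβ]; exact hj) fun e he => by
      refine Eq.trans ?_ (hh _ (Or.inr (Or.inr ⟨e, he, rfl⟩)))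
      exact DFunLike.congr_fun (FreeGroup.ext_hom (FreeGroup.lift (Sum.elim α β))
        ((FreeGroup.lift h).comp tr) fun i => by
          rcases i with x | x
          · simp only [MonoidHom.comp_apply, tr, FreeGroup.lift_apply_of, Sum.elim_inl]
            rw [hl', show h ∘ Sum.inl = α ∘ gA from funext fun i => (hα i).symm, ← lift_natural,
              hWA]
          · simp only [MonoidHom.comp_apply, tr, FreeGroup.lift_apply_of, Sum.elim_inr]
            rw [hr', show h ∘ Sum.inr = β ∘ gB from funext fun i => (hβ i).symm, ← lift_natural,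
              hWB]) e
    refine ⟨Ψ, ?_⟩
    rintro (i | i)
    · exact (DFunLike.congr_fun hΨA (gA i)).trans (hα i)
    · exact (DFunLike.congr_fun hΨB (gB i)).trans (hβ i)

end CfsgLib.Presentations.SLTight
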