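import Mathlib
import Cfsg.Agent.Lib.Presentations.SLTight.Three
import Cfsg.Agent.Lib.Presentations.SLTight.Force

/-!
Special linear groups with five relations beside those of the two parts.
-/

set_option autoImplicit false
set_option linter.unusedSectionVars false

namespace CfsgLib.Presentations.SLTight

open Equiv Equiv.Perm Matrix
open Carmichael
open Multiplicative (ofAdd)
open CfsgLib.SL3Pres (mX mY mC mH mDiag mRoot)

variable {F : Type*} [Field F] [Fintype F] {n : ℕ}

section Words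

variable {A B : Type*} {Γ : Type*} [Group Γ]

/-- Conjugation of a letter of the second part by one of the first. -/
def conjWord (s : A) (x y : B) : FreeGroup (A ⊕ B) :=
  FreeGroup.of (Sum.inl s) * FreeGroup.of (Sum.inr x) * (FreeGroup.of (Sum.inl s))⁻¹
    * (FreeGroup.of (Sum.inr y))⁻¹

/-- A letter of the second part commuting with its conjugate. -/
def commWord (s : A) (x : B) : FreeGroup (A ⊕ B) :=
  let y := FreeGroup.of (Sum.inl s) * FreeGroup.of (Sum.inr x) * (FreeGroup.of (Sum.inl s))⁻¹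
  FreeGroup.of (Sum.inr x) * y * (y * FreeGroup.of (Sum.inr x))⁻¹

theorem conjWord_iff (α : A → Γ) (β : B → Γ) (s : A) (x y : B) :
    FreeGroup.lift (Sum.elim α β) (conjWord s x y) = 1 ↔ α s * β x * (α s)⁻¹ = β y := by
  simp only [conjWord, map_mul, map_inv, FreeGroup.lift_apply_of, Sum.elim_inl, Sum.elim_inr,
    mul_inv_eq_one]

theorem commWord_iff (α : A → Γ) (β : B → Γ) (s : A) (x : B) :
    FreeGroup.lift (Sum.elim α β) (commWord s x) = 1 ↔ Commute (β x) (α s * β x * (α s)⁻¹) := by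
  simp only [commWord, map_mul, map_inv, FreeGroup.lift_apply_of, Sum.elim_inl, Sum.elim_inr,
    mul_inv_eq_one]
  rfl

end Words

/-- Over the field of two elements the relation for the torus is not needed. -/
theorem sl_tight' (hn : 4 ≤ n) {κ : Type} {a : ℕ}
    (hA : BoundedOn (alternatingGroup (Fin n)) κ a) :
    BoundedOn (Matrix.SpecialLinearGroup (Fin n) F) (κ ⊕ Fin 4)
      (a + 13 + 1 + if Fintype.card F = 2 then 3 else 4) := by
  classical
  obtain ⟨t, ht, hord⟩ := CfsgLib.SL2Pres.exists_gen F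
  have hd1 : Fintype.card F = 2 → mDiag F t t⁻¹ = 1 := fun h2 => by
    have : t = 1 := orderOf_eq_one_iff.1 (by rw [hord, h2])
    subst this
    refine Subtype.ext (Matrix.ext fun i j => ?_)
    fin_cases i <;> fin_cases j <;> simp [mDiag]
  obtain ⟨L, hL, tL, cL, uL⟩ := sl3_thirteen (F := F) ht
  have h3 : 3 ≤ n := Nat.le_of_succ_le hn
  let e : Fin 3 → Fin n := e3 hn
  let i3 : Fin n := pt hn 3
  have he : Function.Injective e := Fin.castLE_injective h3
  have he3 : ∀ a, e a ≠ i3 := e3_ne_three hn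
  have h01 : e 0 ≠ e 1 := he.ne (by decide)
  have h02 : e 0 ≠ e 2 := he.ne (by decide)
  have h12 : e 1 ≠ e 2 := he.ne (by decide)
  obtain ⟨hc0, hc1, hc2, hcfix⟩ := σc_apply hn
  obtain ⟨hi0, hi1, -, -⟩ := σi_apply hn
  obtain ⟨hp0, hp1, -, -⟩ := σp_apply hn
  set f := altMat F n
  set g := blockMat F h3
  let E : ∀ {i j : Fin n}, i ≠ j → F → Matrix.SpecialLinearGroup (Fin n) F :=
    fun hij c => Matrix.SpecialLinearGroup.transvection hij c
  have hgR : ∀ (i j : Fin 3) (hij : i ≠ j) (c : F),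
      g (mRoot F i j hij (ofAdd c)) = E (he.ne hij) c := fun i j hij c => blockMat_root h3 hij c
  have hEc : ∀ (σ : alternatingGroup (Fin n)) {i j i' j' : Fin n} (hij : i ≠ j) (hij' : i' ≠ j')
      (c : F), (σ : Perm (Fin n)) i = i' → (σ : Perm (Fin n)) j = j' →
      f σ * E hij c * (f σ)⁻¹ = E hij' c := by
    intro σ i j i' j' hij hij' c e1 e2
    subst e1 e2
    exact altMat_conj σ hij c
  have hEcomm : ∀ {i j k l : Fin n} (hij : i ≠ j) (hkl : k ≠ l), j ≠ k → l ≠ i → ∀ a b : F,
      Commute (E hij a) (E hkl b) := by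
    intro i j k l hij hkl hjk hli a b
    refine Subtype.ext ?_
    show Matrix.transvection i j a * Matrix.transvection k l b
      = Matrix.transvection k l b * Matrix.transvection i j a
    simp only [Matrix.transvection, add_mul, mul_add, one_mul, mul_one,
      Matrix.single_mul_single_of_ne _ _ _ _ hjk, Matrix.single_mul_single_of_ne _ _ _ _ hli]
    abel
  have hfc : f (σc hn) = g (mC F) := permMat_mC h3 (σc hn) hc0 hc1 hc2 hcfix
  have hgen : f.range ⊔ g.range = ⊤ := by
    refine CfsgLib.Classical.SL_le_of_transvections _ fun i j hij c => ?_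
    obtain ⟨h, h0, h1⟩ : ∃ h : alternatingGroup (Fin n), (h : Perm (Fin n)) (e 0) = i ∧
        (h : Perm (Fin n)) (e 1) = j := by
      obtain ⟨π, hπ⟩ := Equiv.Perm.exists_extending_pair (![e 0, e 1]) (![i, j])
        (by intro a b; fin_cases a <;> fin_cases b <;> simp [h01, h01.symm])
        (by intro a b; fin_cases a <;> fin_cases b <;> simp [hij, hij.symm])
      have p0 := hπ 0; have p1 := hπ 1
      simp at p0 p1
      rcases Int.units_eq_one_or (sign π) with hs | hs
      · exact ⟨⟨π, Equiv.Perm.mem_alternatingGroup.2 hs⟩, p0, p1⟩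
      · refine ⟨⟨π * swap (e 2) i3, Equiv.Perm.mem_alternatingGroup.2 (by
          rw [map_mul, hs, sign_swap (he3 2)]; rfl)⟩, ?_, ?_⟩
        · show π (swap (e 2) i3 (e 0)) = i
          rw [swap_apply_of_ne_of_ne h02 (he3 0), p0]
        · show π (swap (e 2) i3 (e 1)) = j
          rw [swap_apply_of_ne_of_ne h12 (he3 1), p1]
    rw [show Matrix.SpecialLinearGroup.transvection hij c = f h * g (mX F (ofAdd c)) * (f h)⁻¹ by
      rw [SL3Pres.mX, hgR]; exact (hEc h _ hij c h0 h1).symm]
    exact mul_mem (mul_mem (Subgroup.mem_sup_left ⟨h, rfl⟩) (Subgroup.mem_sup_right ⟨_, rfl⟩))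
      (inv_mem (Subgroup.mem_sup_left ⟨h, rfl⟩))
  -- conjugation by a permutation preserving part of the block
  have hact : ∀ (σ : alternatingGroup (Fin n))
      (φ : Matrix.SpecialLinearGroup (Fin 3) F →* Matrix.SpecialLinearGroup (Fin 3) F)
      (s : Fin 3 → Fin 3) (hs : Function.Injective s),
      (∀ (i j : Fin 3) (hij : i ≠ j) c, φ (mRoot F i j hij (ofAdd c)) = mRoot F (s i) (s j) (hs.ne hij) (ofAdd c)) →
      ∀ (i j : Fin 3) (hij : i ≠ j) c, (σ : Perm (Fin n)) (e i) = e (s i) → (σ : Perm (Fin n)) (e j) = e (s j) →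
        f σ * g (mRoot F i j hij (ofAdd c)) * (f σ)⁻¹ = g (φ (mRoot F i j hij (ofAdd c))) := by
    intro σ φ s hs hφ i j hij c e1 e2
    rw [hφ, hgR, hgR]
    exact hEc σ _ _ c e1 e2
  have hr : ∀ y, f (σr hn) * g y * (f (σr hn))⁻¹ = g (phi hn y) := by
    intro y
    have htop : MonoidHom.eqLocus ((MulAut.conj (f (σr hn))).toMonoidHom.comp g) (g.comp (phi hn)) = ⊤ := by
      refine CfsgLib.Classical.SL_le_of_transvections _ fun i j hij c => ?_
      show f (σr hn) * g (mRoot F i j hij (ofAdd c)) * (f (σr hn))⁻¹ = g (phi hn (mRoot F i j hij (ofAdd c)))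
      rcases phi_cases (F := F) hn with ⟨a0, a1, hphi⟩ | ⟨a0, a1, hphi⟩ <;> rw [hphi]
      · have hk : ∀ k, (σr hn : Perm (Fin n)) (e k) = e (id k) := fun k => by
          fin_cases k
          exacts [a0, a1, σr_two hn]
        exact hact _ _ id Function.injective_id (fun _ _ _ _ => rfl) i j hij c (hk i) (hk j)
      · have hk : ∀ k, (σr hn : Perm (Fin n)) (e k) = e (Equiv.swap 0 1 k) := fun k => by
          fin_cases k
          exacts [a0, a1, σr_two hn]
        exact hact _ _ _ (Equiv.injective _) (fun i j hij c => swB_root i j hij c) i j hij c (hk i) (hk j)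
    exact (htop ▸ Subgroup.mem_top y : y ∈ MonoidHom.eqLocus _ _)
  have hσ01 : ∀ c, f (σi hn) * g (mX F (ofAdd c)) * (f (σi hn))⁻¹ = g (swB (mX F (ofAdd c))) := fun c =>
    hact _ _ _ (Equiv.injective _) (fun i j hij c => swB_root i j hij c) 0 1 _ c hi0 hi1
  have hσ10 : ∀ c, f (σi hn) * g (mRoot F 1 0 (by decide) (ofAdd c)) * (f (σi hn))⁻¹
      = g (swB (mRoot F 1 0 (by decide) (ofAdd c))) := fun c =>
    hact _ _ _ (Equiv.injective _) (fun i j hij c => swB_root i j hij c) 1 0 _ c hi1 hi0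
  let K : Subgroup (Matrix.SpecialLinearGroup (Fin 3) F) :=
    MonoidHom.eqLocus ((MulAut.conj (f (σi hn))).toMonoidHom.comp g) (g.comp swB)
  have hK01 : ∀ c, mX F (ofAdd c) ∈ K := hσ01
  have hK10 : ∀ c, mRoot F 1 0 (by decide) (ofAdd c) ∈ K := hσ10
  have hKd : mDiag F t t⁻¹ ∈ K := by
    rw [← Wd_zero_one]
    exact mul_mem (mul_mem (mul_mem (hK01 _) (hK10 _)) (hK01 _))
      (mul_mem (mul_mem (hK01 _) (hK10 _)) (hK01 _))
  have hKa : a4 t ∈ K := mul_mem (hK10 _) (hK01 _)
  have h4true : Commute (g (mX F (ofAdd 1))) (f (σp hn) * g (mX F (ofAdd 1)) * (f (σp hn))⁻¹) := by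
    rw [SL3Pres.mX, hgR, hEc (σp hn) h01 (he3 2) _ hp0 hp1]
    exact hEcomm h01 (he3 2) h12 (he3 0).symm 1 1
  let A := alternatingGroup (Fin n)
  let B := Matrix.SpecialLinearGroup (Fin 3) F
  let rel : A → B → B → FreeGroup (A ⊕ B) := conjWord
  let u : B := mX F (ofAdd 1)
  let d : B := mDiag F t t⁻¹
  let E4 : FreeGroup (A ⊕ B) := commWord (σp hn) u
  let Es : List (FreeGroup (A ⊕ B)) :=
    if Fintype.card F = 4 then
      [rel (σr hn) u (phi hn u), rel (σr hn) d (phi hn d), rel (σi hn) (a4 t) (swB (a4 t)), E4]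
    else if Fintype.card F = 2 then [rel (σr hn) (g0 t) (phi hn (g0 t)), rel (σi hn) u (swB u), E4]
    else [rel (σr hn) (g0 t) (phi hn (g0 t)), rel (σi hn) u (swB u), rel (σi hn) d (swB d), E4]
  have hlen : Es.length = if Fintype.card F = 2 then 3 else 4 := by
    simp only [Es]
    split_ifs <;> simp_all
  refine (glue_drop f g hA (gens t) L hL tL cL 2 (fun Γ _ φ h1 h2 => uL Γ φ h1 h2) (σc hn) (σc_cube hn)
    hfc hgen Es ?_ ?_).mono (by rw [hlen])
  · intro r hr'
    simp only [Es] at hr'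
    split_ifs at hr' with hq hq2 <;> simp only [List.mem_cons, List.not_mem_nil, or_false] at hr' <;>
      [rcases hr' with rfl | rfl | rfl | rfl; rcases hr' with rfl | rfl | rfl;
        rcases hr' with rfl | rfl | rfl | rfl]
    · exact (conjWord_iff _ _ _ _ _).2 (hr u)
    · exact (conjWord_iff _ _ _ _ _).2 (hr d)
    · exact (conjWord_iff _ _ _ _ _).2 hKa
    · exact (commWord_iff _ _ _ _).2 h4true
    · exact (conjWord_iff _ _ _ _ _).2 (hr (g0 t))
    · exact (conjWord_iff _ _ _ _ _).2 (hK01 1)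
    · exact (commWord_iff _ _ _ _).2 h4true
    · exact (conjWord_iff _ _ _ _ _).2 (hr (g0 t))
    · exact (conjWord_iff _ _ _ _ _).2 (hK01 1)
    · exact (conjWord_iff _ _ _ _ _).2 hKd
    · exact (commWord_iff _ _ _ _).2 h4true
  · intro Γ _ α β rc hh
    change α (σc hn) = β (mC F) at rc
    let Kr : Subgroup B :=
      MonoidHom.eqLocus ((MulAut.conj (α (σr hn))).toMonoidHom.comp β) (β.comp (phi hn))
    have hKc : mC F ∈ Kr := by
      show α (σr hn) * β (mC F) * (α (σr hn))⁻¹ = β (phi hn (mC F))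
      rw [← rc, ← map_inv, ← map_mul, ← map_mul]
      rcases phi_cases (F := F) hn with ⟨a0, a1, hphi⟩ | ⟨a0, a1, hphi⟩
      · rw [hphi, MonoidHom.id_apply, ← rc]
        congr 1
        refine Subtype.ext ?_
        show (σr hn : Perm (Fin n)) * cyc (pt hn 0) (pt hn 1) (pt hn 2) * (σr hn : Perm (Fin n))⁻¹ = _
        rw [conj_cyc, a0, a1, σr_two]
        rfl
      · rw [hphi, swB_mC, map_inv, ← rc, ← map_inv]
        congr 1
        refine Subtype.ext ?_
        show (σr hn : Perm (Fin n)) * cyc (pt hn 0) (pt hn 1) (pt hn 2) * (σr hn : Perm (Fin n))⁻¹ = _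
        rw [conj_cyc, a0, a1, σr_two, InvMemClass.coe_inv]
        show _ = (cyc (pt hn 0) (pt hn 1) (pt hn 2))⁻¹
        rw [cyc, cyc, _root_.mul_inv_rev, swap_inv, swap_inv, Equiv.swap_comm (pt hn 1) (pt hn 0)]
        have := swap_apply_apply (swap (pt hn 0) (pt hn 1)) (pt hn 0) (pt hn 2)
        rw [swap_apply_left, swap_apply_of_ne_of_ne (pt_ne hn (by decide)) (pt_ne hn (by decide)),
          swap_inv] at this
        rw [this, mul_assoc, Equiv.swap_mul_self, mul_one]
    let Ki : Subgroup B :=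
      MonoidHom.eqLocus ((MulAut.conj (α (σi hn))).toMonoidHom.comp β) (β.comp swB)
    obtain ⟨hKr, hKu, hKid, h4⟩ : Kr = ⊤ ∧ u ∈ Ki ∧ d ∈ Ki ∧
        Commute (β u) (α (σp hn) * β u * (α (σp hn))⁻¹) := by
      simp only [Es] at hh
      split_ifs at hh with hq hq2
      · 
        simp only [List.mem_cons, List.not_mem_nil, or_false, forall_eq_or_imp, forall_eq, rel, E4, conjWord_iff, commWord_iff] at hh
        obtain ⟨r1, r2, r3, r4⟩ := hh
        have hback : swB (a4 t) ∈ Ki := by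
          show α (σi hn) * β (swB (a4 t)) * (α (σi hn))⁻¹ = β (swB (swB (a4 t)))
          rw [← r3, show α (σi hn) * (α (σi hn) * β (a4 t) * (α (σi hn))⁻¹) * (α (σi hn))⁻¹
            = α (σi hn) * α (σi hn) * β (a4 t) * (α (σi hn) * α (σi hn))⁻¹ by group, ← map_mul,
            σi_mul_self, map_one, one_mul, inv_one, mul_one, a4, map_mul swB, map_mul swB, swB_m10,
            swB_mX, swB_mX, swB_m10]
        obtain ⟨k1, k2⟩ := four_words hq ht Ki r3 hback
        exact ⟨top_of_c_u_d ht Kr hKc r1 r2, k1, k2, r4⟩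
      · simp only [List.mem_cons, List.not_mem_nil, or_false, forall_eq_or_imp, forall_eq, rel, E4, conjWord_iff, commWord_iff] at hh
        obtain ⟨r1, r2, r4⟩ := hh
        refine ⟨top_of_c_g0 hq ht Kr hKc r1, r2, ?_, r4⟩
        rw [show d = 1 from hd1 hq2]
        exact one_mem _
      · simp only [List.mem_cons, List.not_mem_nil, or_false, forall_eq_or_imp, forall_eq, rel, E4, conjWord_iff, commWord_iff] at hh
        obtain ⟨r1, r2, r3, r4⟩ := hh
        exact ⟨top_of_c_g0 hq ht Kr hKc r1, r2, r3, r4⟩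
    refine sl_forced hn ht α β rc (fun y => (hKr ▸ Subgroup.mem_top y : y ∈ Kr)) ?_ ?_ h4
    · exact (hKu : α (σi hn) * β u * (α (σi hn))⁻¹ = β (swB u)).trans (congrArg β (swB_mX 1))
    · exact (hKid : α (σi hn) * β d * (α (σi hn))⁻¹ = β (swB d)).trans (congrArg β (swB_diag t))

theorem sl_tight (hn : 4 ≤ n) {κ : Type} {a : ℕ}
    (hA : BoundedOn (alternatingGroup (Fin n)) κ a) :
    BoundedOn (Matrix.SpecialLinearGroup (Fin n) F) (κ ⊕ Fin 4) (a + 13 + 1 + 4) :=
  (sl_tight' hn hA).mono (by split_ifs <;> omega)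

end CfsgLib.Presentations.SLTight
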