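import Mathlib
import Cfsg.Agent.Lib.Presentations.SLTight.Glue
import Cfsg.Agent.Lib.Presentations.AltSeven.Main

/-!
Seven generators and twenty-five relations for SL_n, fewer for four and five.
-/

set_option autoImplicit false

namespace CfsgLib.Presentations.SLTight

universe u

variable {F : Type u} [Field F] [Fintype F]

theorem sl_four : BoundedOn (Matrix.SpecialLinearGroup (Fin 4) F) (Fin 6) 21 := by
  have hA := (Carmichael.bounded_small_on 2 (by norm_num)).reindex
    (Fintype.equivFinOfCardEq (Carmichael.card_idx 2))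
  exact (((sl_tight (F := F) le_rfl hA).reindex finSumFinEquiv).mono (by norm_num))

theorem sl_five : BoundedOn (Matrix.SpecialLinearGroup (Fin 5) F) (Fin 6) 22 := by
  have hA := AltSeven.alt_five_four.map
    (Equiv.altCongrHom (Fintype.equivFinOfCardEq (by simp) : AltSeven.Pts 3 ≃ Fin 5))
  exact (((sl_tight (F := F) (by norm_num : 4 ≤ 5) hA).reindex finSumFinEquiv).mono (by norm_num))

theorem sl_seven (n : ℕ) (hn : 4 ≤ n) :
    BoundedOn (Matrix.SpecialLinearGroup (Fin n) F) (Fin 7) 25 := by
  rcases eq_or_lt_of_le hn with rfl | h5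
  · exact ((sl_four.pad 1).reindex finSumFinEquiv).mono (by norm_num)
  · exact ((sl_tight hn (AltSeven.seven_sym_alt n h5).2.1).reindex finSumFinEquiv).mono (by norm_num)

theorem sl_five_two (h2 : Fintype.card F = 2) :
    BoundedOn (Matrix.SpecialLinearGroup (Fin 5) F) (Fin 6) 21 := by
  have hA := AltSeven.alt_five_four.map
    (Equiv.altCongrHom (Fintype.equivFinOfCardEq (by simp) : AltSeven.Pts 3 ≃ Fin 5))
  exact (((sl_tight' (F := F) (by norm_num : 4 ≤ 5) hA).reindex finSumFinEquiv).mono (by simp [h2]))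

theorem sl_seven_two (h2 : Fintype.card F = 2) (n : ℕ) (hn : 5 ≤ n) :
    BoundedOn (Matrix.SpecialLinearGroup (Fin n) F) (Fin 7) 24 :=
  ((sl_tight' (by omega : 4 ≤ n) (AltSeven.seven_sym_alt n hn).2.1).reindex finSumFinEquiv).mono
    (by simp [h2])

theorem psl_seven (n : ℕ) (hn : 4 ≤ n) :
    BoundedOn (Matrix.ProjectiveSpecialLinearGroup (Fin n) F) (Fin 7) 26 := by
  set Z := Subgroup.center (Matrix.SpecialLinearGroup (Fin n) F)
  have : NeZero n := ⟨by omega⟩
  have : IsCyclic Z :=
    isCyclic_of_surjective Matrix.SpecialLinearGroup.center_equiv_rootsOfUnity.symm.toMonoidHom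
      Matrix.SpecialLinearGroup.center_equiv_rootsOfUnity.symm.surjective
  obtain ⟨z, hz⟩ := IsCyclic.exists_generator (α := Z)
  let p := QuotientGroup.mk' Z
  have hker : p.ker = Subgroup.normalClosure {(z : Matrix.SpecialLinearGroup (Fin n) F)} := by
    rw [QuotientGroup.ker_mk']
    refine le_antisymm (fun y hy => ?_)
      (Subgroup.normalClosure_le_normal (Set.singleton_subset_iff.2 z.2))
    obtain ⟨k, hk⟩ := Subgroup.mem_zpowers_iff.1 (hz ⟨y, hy⟩)
    have : (z : Matrix.SpecialLinearGroup (Fin n) F) ^ k = y := by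
      simpa using congrArg Subtype.val hk
    rw [← this]
    exact zpow_mem (Subgroup.subset_normalClosure (Set.mem_singleton _)) k
  exact (sl_seven n hn).quotient p (QuotientGroup.mk'_surjective Z) _ hker

end CfsgLib.Presentations.SLTight
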